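import Groth.Agent.RigidLib.Scalar
import Groth.Agent.Dual3Lib.SerreMain
import Groth.Agent.ShriekLib.SelfAdj
import Groth.Agent.BCArbLib.Prep

/-!
# Rigid objects have trivial internal endomorphisms
-/

set_option autoImplicit false
set_option linter.style.haveILetI false
set_option linter.unusedSectionVars false
set_option backward.isDefEq.respectTransparency false
set_option backward.isDefEq.respectTransparency.types false
set_option maxHeartbeats 1000000
set_option synthInstance.maxHeartbeats 200000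

universe u

open CategoryTheory CategoryTheory.Limits AlgebraicGeometry CategoryTheory.Pretriangulated
open Groth.Agent Groth.Agent.DerLib Groth.Agent.PerfDualLib

attribute [local instance] HasDerivedCategory.standard

noncomputable section

namespace Groth.Agent.RigidLib

attribute [local instance] overΓ

section AffineScheme

variable {Z : Scheme.{u}} [IsAffine Z]

local notation "OD" => DCoh.inD Z (Coh.structureModule Z)

/-- The structure sheaf has no nonzero shifted endomorphisms. -/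
theorem hom_unit_shift_eq_zero {m : ℤ} (hm : m ≠ 0) (φ : OD ⟶ OD⟦m⟧) : φ = 0 := by
  have hq : DCoh.IsQCohD OD := (Dual3Lib.unitQ Z).property
  rcases lt_or_gt_of_ne hm with h | h
  · haveI : (OD⟦m⟧).IsGE (-m) := DerivedCategory.TStructure.t.isGE_shift OD 0 m (-m) (by omega)
    exact DerivedCategory.TStructure.t.zero φ 0 (-m) (by omega)
  · exact KoszOrthLib.hom_unit_shift_eq_zero_of_isLE hq 0 (by omega) φ

/-- Every endomorphism of `O` is a scalar. -/
theorem exists_smul (φ : OD ⟶ OD) : ∃ r : Γ(Z, ⊤), φ = r • 𝟙 _ := by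
  refine BCArbLib.exists_smul_id ?_ 0 ((shiftFunctorZero (DCoh.D Z) ℤ).app OD).symm φ
  rw [show Coh.toGlobal (Z ↘ Spec (CommRingCat.of Γ(Z, ⊤))) = RingHom.id _ from
    RingHom.ext fun r => toGlobal_overΓ Z r]
  exact Function.bijective_id

variable (EU : CochainComplex Z.Modules ℤ) [DCoh.HasLTensorCx EU] [DCoh.HasRSheafHom EU]

/-- Transposing respects scalars. -/
theorem symm_homEquiv_smul {M N : DCoh.D Z} (g : M ⟶ (DCoh.RSheafHom EU).obj N) (r : Γ(Z, ⊤)) :
    ((DCoh.RSheafHomAdj EU).homEquiv M N).symm (r • g) =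
      r • ((DCoh.RSheafHomAdj EU).homEquiv M N).symm g := by
  rw [Adjunction.homEquiv_counit, Adjunction.homEquiv_counit, Dual3Lib.Serre.lTensor_map_smul,
    Linear.smul_comp]

/-- On an affine scheme, `O ⟶ RHom(E, E)` is invertible when `E` has only scalar endomorphisms. -/
theorem isIso_homEquiv_affine
    (hEnd : Function.Bijective fun r : Γ(Z, ⊤) => r • 𝟙 (DerivedCategory.Q.obj EU))
    (hExt : ∀ i : ℤ, i ≠ 0 → Subsingleton
      (DerivedCategory.Q.obj EU ⟶ (DerivedCategory.Q.obj EU)⟦i⟧))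
    (hq : DCoh.IsQCohD ((DCoh.RSheafHom EU).obj (DerivedCategory.Q.obj EU)))
    (u : (DCoh.LTensorCx EU).obj OD ≅ DerivedCategory.Q.obj EU) :
    IsIso ((DCoh.RSheafHomAdj EU).homEquiv _ _ u.hom) := by
  let A := DCoh.RSheafHomAdj EU
  let R := (DCoh.RSheafHom EU).obj (DerivedCategory.Q.obj EU)
  let φ : OD ⟶ R := A.homEquiv _ _ u.hom
  change IsIso φ
  have hb : Function.Bijective fun r : Γ(Z, ⊤) => r • φ := by
    have e : (fun r : Γ(Z, ⊤) => r • φ) = (A.homEquiv OD _) ∘ (fun h => u.hom ≫ h) ∘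
        fun r : Γ(Z, ⊤) => r • 𝟙 (DerivedCategory.Q.obj EU) := funext fun r => by
      refine (Equiv.symm_apply_eq _).1 ?_
      show ((DCoh.RSheafHomAdj EU).homEquiv _ _).symm (r • φ) = u.hom ≫ (r • 𝟙 _)
      rw [symm_homEquiv_smul, Linear.comp_smul, Category.comp_id]
      exact congrArg (r • ·) ((A.homEquiv _ _).symm_apply_apply _)
    rw [e]
    exact (A.homEquiv OD _).bijective.comp (u.symm.homFromEquiv.bijective.comp hEnd)
  have hR : ∀ m : ℤ, m ≠ 0 → ∀ z : OD⟦m⟧ ⟶ R, z = 0 := fun m hm z => by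
    obtain ⟨s⟩ := FMKLib.nonempty_lTensor_shift EU OD m
    haveI := hExt (-m) (by omega)
    refine (A.homEquiv (OD⟦m⟧) _).symm.injective ?_
    let e := s ≪≫ (shiftFunctor _ m).mapIso u
    rw [← cancel_epi e.inv]
    refine (shiftFunctor (DCoh.D Z) (-m)).map_injective ?_
    rw [← cancel_epi ((shiftFunctorCompIsoId (DCoh.D Z) m (-m) (by omega)).inv.app (DerivedCategory.Q.obj EU))]
    exact (hExt (-m) (by omega)).elim _ _
  obtain ⟨C, p, δ, hT⟩ := distinguished_cocone_triangle φ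
  let T := Triangle.mk φ p δ
  have hCq : DCoh.IsQCohD C := KFlatLib.isQCohD₂ (rot_of_distTriang _ hT) hq
    (KFlatLib.isQCohD_shift (Dual3Lib.unitQ Z).property 1)
  suffices hz : IsZero C from (Triangle.isZero₃_iff_isIso₁ _ hT).1 hz
  have hall : ∀ (m : ℤ) (z : OD⟦m⟧ ⟶ C), z = 0 := fun m z => by
    have hd : z ≫ δ = 0 := by
      by_cases hm : m = 1
      · subst hm
        obtain ⟨w, hw⟩ := (shiftFunctor (DCoh.D Z) (1 : ℤ)).map_surjective (z ≫ δ)
        obtain ⟨c, hc⟩ := exists_smul w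
        have h0 : (shiftFunctor (DCoh.D Z) (1 : ℤ)).map (w ≫ φ) = 0 := by
          rw [Functor.map_comp, hw, Category.assoc]
          exact (congrArg (z ≫ ·) (comp_distTriang_mor_zero₃₁ _ hT)).trans comp_zero
        have h1 : w ≫ φ = 0 := (shiftFunctor (DCoh.D Z) (1 : ℤ)).map_injective (by rw [h0, Functor.map_zero])
        rw [hc, Linear.smul_comp, Category.id_comp] at h1
        have hc0 : c = 0 := hb.injective (show c • φ = (0 : Γ(Z, ⊤)) • φ by rw [h1, zero_smul])
        rw [← hw, hc, hc0, zero_smul, Functor.map_zero]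
      · obtain ⟨w, hw⟩ := (shiftFunctor (DCoh.D Z) (-m)).map_surjective
          (0 : (OD⟦m⟧)⟦-m⟧ ⟶ (OD⟦(1 : ℤ)⟧)⟦-m⟧)
        refine (shiftFunctor (DCoh.D Z) (-m)).map_injective ?_
        rw [← cancel_epi ((shiftFunctorCompIsoId (DCoh.D Z) m (-m) (by omega)).inv.app OD),
          ← cancel_mono ((shiftFunctorAdd' (DCoh.D Z) (1 : ℤ) (-m) (1 + -m) rfl).inv.app OD),
          Functor.map_zero, comp_zero, zero_comp]
        exact hom_unit_shift_eq_zero (by omega) _
    obtain ⟨w, hw⟩ := Triangle.coyoneda_exact₃ _ hT z hd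
    change z = w ≫ p at hw
    have hp : φ ≫ p = 0 := comp_distTriang_mor_zero₁₂ _ hT
    by_cases hm : m = 0
    · subst hm
      let z₀ := (shiftFunctorZero (DCoh.D Z) ℤ).app OD
      obtain ⟨c, hc⟩ := hb.2 (z₀.inv ≫ w)
      dsimp only at hc
      rw [hw, ← cancel_epi z₀.inv, ← Category.assoc, ← hc, Linear.smul_comp, hp, smul_zero, comp_zero]
    · rw [hw, hR m hm w, zero_comp]
  refine KoszOrthLib.isZero_of_forall_hom_affine C hCq fun n ψ => ?_
  refine (shiftFunctor (DCoh.D Z) (-n)).map_injective ?_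
  rw [← cancel_mono ((shiftFunctorCompIsoId (DCoh.D Z) n (-n) (by omega)).hom.app C), Functor.map_zero, zero_comp]
  exact hall (-n) _

/-- A transpose of an isomorphism is invertible once scalars are the only endomorphisms. -/
theorem isIso_of_scalar
    (hEnd : Function.Bijective fun r : Γ(Z, ⊤) => r • 𝟙 (DerivedCategory.Q.obj EU))
    {R : DCoh.D Z} (φ : OD ⟶ R) (ψ : R ≅ OD)
    (g : (DCoh.LTensorCx EU).obj R ⟶ DerivedCategory.Q.obj EU) [IsIso ((DCoh.LTensorCx EU).map φ ≫ g)] :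
    IsIso φ := by
  obtain ⟨c, hc⟩ := exists_smul (φ ≫ ψ.hom)
  have hφ : φ = c • ψ.inv := by
    rw [← cancel_mono ψ.hom, hc, Linear.smul_comp, ψ.inv_hom_id]
  let v := asIso ((DCoh.LTensorCx EU).map φ ≫ g)
  obtain ⟨d, hd⟩ := hEnd.2 (v.inv ≫ (DCoh.LTensorCx EU).map ψ.inv ≫ g)
  dsimp only at hd
  have hv : v.hom = c • ((DCoh.LTensorCx EU).map ψ.inv ≫ g) := by
    show (DCoh.LTensorCx EU).map φ ≫ g = _
    rw [hφ, Dual3Lib.Serre.lTensor_map_smul, Linear.smul_comp]
  have hcd : c * d = 1 := by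
    refine hEnd.injective ?_
    show (c * d) • 𝟙 (DerivedCategory.Q.obj EU) = (1 : Γ(Z, ⊤)) • 𝟙 _
    rw [mul_smul, hd, ← Linear.comp_smul, ← hv, v.inv_hom_id, one_smul]
  refine ⟨⟨d • ψ.hom, ?_, ?_⟩⟩
  · rw [hφ, Linear.smul_comp, Linear.comp_smul, ψ.inv_hom_id, smul_smul, hcd, one_smul]
  · rw [hφ, Linear.smul_comp, Linear.comp_smul, ψ.hom_inv_id, smul_smul, mul_comm d c, hcd, one_smul]

end AffineScheme

variable {X S : Scheme.{u}} {f : X ⟶ S} [Flat f] [LocallyOfFinitePresentation f] [IsSeparated f]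
  [DCoh.HasLpull (pullback.fst f f)]
  [PreservesFiniteLimits (Scheme.Modules.pushforward (pullback.diagonal f))]
  [PreservesFiniteColimits (Scheme.Modules.pushforward (pullback.diagonal f))]
  {K : DCoh.D X}

/-- An object of locally finite tor dimension over the base is locally bounded below. -/
theorem exists_isGE_self {g : X ⟶ S} (htor : DCoh.LocHasFiniteRelTorDim g K) (x : X) :
    ∃ (V : X.Opens) (a : ℤ), x ∈ V ∧ ((DCoh.restrictD V.ι).obj K).IsGE a := by
  obtain ⟨V, a, b, hx, hV⟩ := htor x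
  obtain ⟨F, ⟨eF⟩⟩ : ∃ F : Cx X, Nonempty (DCoh.toD X F ≅ K) := ⟨_, ⟨DerivedCategory.Q.objObjPreimageIso K⟩⟩
  obtain ⟨G, hG, -, ⟨eG⟩⟩ := hV F ⟨eF⟩
  haveI : G.IsStrictlyGE a := (CochainComplex.isStrictlyGE_iff G a).2 fun i hi => hG i (Or.inl hi)
  haveI : (DerivedCategory.Q.obj G).IsGE a := inferInstance
  exact ⟨V, a, hx, DerivedCategory.TStructure.t.isGE_of_iso
    (eG ≪≫ ((Scheme.Modules.restrictFunctor V.ι).mapDerivedCategoryFactors.app F).symm ≪≫
      (DCoh.restrictD V.ι).mapIso eF) a⟩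

/-- `RHom(E, E)` of a rigid object is quasi-coherent. -/
theorem isQCohD_rSheafHom_self (hK : Dual3.IsRelDualizing f K) (E : CochainComplex X.Modules ℤ)
    (eE : DCoh.toD X E ≅ K) [DCoh.HasLTensorCx E] [DCoh.HasRSheafHom E] :
    DCoh.IsQCohD ((DCoh.RSheafHom E).obj (DerivedCategory.Q.obj E)) := by
  obtain ⟨ξ, hpc, htor, -⟩ := hK
  refine PerfDualLib.isQCohD_of_local fun x => ?_
  obtain ⟨V, a, hx, hV⟩ := exists_isGE_self htor x
  haveI : ((DCoh.restrictD V.ι).obj (DerivedCategory.Q.obj E)).IsGE a :=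
    DerivedCategory.TStructure.t.isGE_of_iso ((DCoh.restrictD V.ι).mapIso eE).symm a
  let EV := (DCohRestrLib.resCx V).obj E
  haveI := KFlatLib.hasLTensorCx EV
  haveI := BidualSchLib.hasRSheafHom EV
  obtain ⟨ρ⟩ := DCohRestrLib.nonempty_restrict_RSheafHom V E
  refine ⟨V, hx, KFlatLib.isQCohD_iso (ρ.app _).symm ?_⟩
  refine Groth.Agent.S1115.result _ EV (fun m => ?_) _ (KoszOrthLib.isQCohD_restrictD V.ι
    (KFlatLib.isQCohD_iso eE.symm (KiehlLib.isQCohD_of_isPC hpc))) a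
  exact PerfLib.isPC_of_iso ((Scheme.Modules.restrictFunctor V.ι).mapDerivedCategoryFactors.app E)
    (PerfLib.isPC_res (PerfLib.isPC_of_iso eE.symm (hpc m)) V.ι)

/-- The canonical map `O ⟶ RHom(E, E)` of a rigid object is invertible. -/
theorem isIso_homEquiv_self (hK : Dual3.IsRelDualizing f K) (E : CochainComplex X.Modules ℤ)
    (hE : Nonempty (DCoh.toD X E ≅ K)) [DCoh.HasLTensorCx E] [DCoh.HasRSheafHom E]
    (υ : (DCoh.LTensorCx E).obj (DCoh.inD X (Coh.structureModule X)) ≅ DCoh.toD X E) :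
    IsIso (((DCoh.RSheafHomAdj E).homEquiv (DCoh.inD X (Coh.structureModule X)) (DCoh.toD X E)) υ.hom) := by
  obtain ⟨eE⟩ := hE
  have hq := isQCohD_rSheafHom_self hK E eE
  let adj := DCoh.RSheafHomAdj E
  let φ := adj.homEquiv (DCoh.inD X (Coh.structureModule X)) (DCoh.toD X E) υ.hom
  have hυ : (DCoh.LTensorCx E).map φ ≫ adj.counit.app _ = υ.hom :=
    (Adjunction.homEquiv_counit (adj := adj) (g := φ)).symm.trans (Equiv.symm_apply_apply _ _)
  change IsIso φ
  rw [DerivedCategory.isIso_iff]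
  intro n
  refine KFlatLib.isIso_of_stalks _ fun x => ?_
  obtain ⟨_, ⟨T, hT, rfl⟩, hxT, -⟩ :=
    S.isBasis_affineOpens.exists_subset_of_mem_open (Set.mem_univ (f x)) isOpen_univ
  obtain ⟨U, hU, hx, e⟩ : ∃ U : X.Opens, IsAffineOpen U ∧ x ∈ U ∧ U ≤ f ⁻¹ᵁ T := by
    obtain ⟨_, ⟨U, hU, rfl⟩, hx, e⟩ :=
      X.isBasis_affineOpens.exists_subset_of_mem_open (show x ∈ f ⁻¹ᵁ T from hxT) (f ⁻¹ᵁ T).isOpen
    exact ⟨U, hU, hx, e⟩
  obtain ⟨M, hM, hb, he⟩ := exists_chart_toEnd hK hU hT e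
  haveI : IsAffine (U : Scheme.{u}) := hU
  let EU := (DCohRestrLib.resCx U).obj E
  let fE : (DCoh.restrictD U.ι).obj (DerivedCategory.Q.obj E) ≅ DerivedCategory.Q.obj EU :=
    (Scheme.Modules.restrictFunctor U.ι).mapDerivedCategoryFactors.app E
  obtain ⟨hEnd, hExt⟩ := scalar_of_mod hM hb he ((DCoh.restrictD U.ι).mapIso eE.symm ≪≫ fE)
  haveI : IsIso ((DCoh.restrictD U.ι).map φ) := by
    let R := DCoh.restrictD U.ι
    obtain ⟨oU⟩ := MiscFlat6.nonempty_restrict_structureModule U.ι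
    let o : DCoh.inD _ (Coh.structureModule (U : Scheme.{u})) ≅ R.obj (DCoh.inD X (Coh.structureModule X)) :=
      (((Scheme.Modules.restrictFunctor U.ι).mapDerivedCategorySingleFunctor 0).app _ ≪≫
        (DerivedCategory.singleFunctor _ 0).mapIso oU).symm
    haveI := KFlatLib.hasLTensorCx EU
    haveI := BidualSchLib.hasRSheafHom EU
    obtain ⟨ω⟩ := DCohRestrLib.nonempty_restrict_LTensor U E
    obtain ⟨ρ⟩ := DCohRestrLib.nonempty_restrict_RSheafHom U E
    let g : (DCoh.LTensorCx EU).obj (R.obj ((DCoh.RSheafHom E).obj (DerivedCategory.Q.obj E))) ⟶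
        DerivedCategory.Q.obj EU :=
      ω.hom.app _ ≫ R.map (adj.counit.app (DerivedCategory.Q.obj E)) ≫ fE.hom
    have eg : (DCoh.LTensorCx EU).map (o.hom ≫ R.map φ) ≫ g =
        (DCoh.LTensorCx EU).map o.hom ≫ ω.hom.app _ ≫ R.map υ.hom ≫ fE.hom := by
      rw [← hυ]
      simp only [g, Functor.map_comp, Category.assoc]
      congr 1
      exact ω.hom.naturality_assoc φ _
    haveI : IsIso ((DCoh.LTensorCx EU).map (o.hom ≫ R.map φ) ≫ g) := by
      rw [eg]
      infer_instance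
    let uU := asIso ((DCoh.LTensorCx EU).map (o.hom ≫ R.map φ) ≫ g)
    let r : R.obj ((DCoh.RSheafHom E).obj (DerivedCategory.Q.obj E)) ≅
        (DCoh.RSheafHom EU).obj (DerivedCategory.Q.obj EU) := ρ.app _ ≪≫ (DCoh.RSheafHom EU).mapIso fE
    haveI := isIso_homEquiv_affine EU hEnd hExt
      (KFlatLib.isQCohD_iso r (KoszOrthLib.isQCohD_restrictD U.ι hq)) uU
    haveI : IsIso (o.hom ≫ R.map φ) := isIso_of_scalar EU hEnd _
      (r ≪≫ (asIso ((DCoh.RSheafHomAdj EU).homEquiv _ _ uU.hom)).symm) g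
    exact IsIso.of_isIso_comp_left o.hom _
  haveI := DCohRestrLib.isIso_restrict_HD U.ι φ n
  exact DCohRestrLib.isIso_stalk_of_restrict U.ι ((DerivedCategory.homologyFunctor X.Modules n).map φ) ⟨x, hx⟩

end Groth.Agent.RigidLib
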