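import Groth.Agent.RigidLib.Perf
import Groth.Agent.RigidLib.Self
import Groth.Agent.ShriekLib.RelDual
import Groth.Agent.BCArbLib.Main

/-!
# Rigidity of the relative dualizing object
-/

set_option autoImplicit false
set_option linter.style.haveILetI false
set_option linter.unusedSectionVars false
set_option backward.isDefEq.respectTransparency false
set_option backward.isDefEq.respectTransparency.types false
set_option maxHeartbeats 1000000
set_option synthInstance.maxHeartbeats 200000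

universe u

open CategoryTheory CategoryTheory.Limits AlgebraicGeometry
open Groth.Agent Groth.Agent.DerLib Groth.Agent.PerfDualLib Groth.Agent.DualFMLib

attribute [local instance] HasDerivedCategory.standard

noncomputable section

namespace Groth.Agent.RigidLib

/-- Locally bounded below on a compact space is bounded below. -/
theorem exists_isGE {X : Scheme.{u}} [CompactSpace X] (K : DCoh.D X)
    (h : ∀ x : X, ∃ (V : X.Opens) (a : ℤ), x ∈ V ∧ ((DCoh.restrictD V.ι).obj K).IsGE a) :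
    ∃ n : ℤ, K.IsGE n := by
  choose V a hx hV using h
  obtain ⟨s, hs⟩ := isCompact_univ.elim_finite_subcover (fun p : X => (V p : Set X))
    (fun p => (V p).isOpen) fun p _ => Set.mem_iUnion.2 ⟨p, hx p⟩
  obtain ⟨n, hn⟩ : ∃ n, ∀ p ∈ s, n ≤ a p :=
    (s.finite_toSet.image a).bddBelow.imp fun n h p hp => h ⟨p, hp, rfl⟩
  refine ⟨n, (DerivedCategory.isGE_iff _ _).2 fun i hi =>
    (DCohRestrLib.isZero_iff_subsingleton_stalks _).2 fun x => ?_⟩
  obtain ⟨p, hp, hxp⟩ := Set.mem_iUnion₂.1 (hs (Set.mem_univ x))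
  haveI := hV p
  exact (DCohRestrLib.subsingleton_stalk_restrict (V p).ι _ ⟨x, hxp⟩).1
    ((DCohRestrLib.isZero_iff_subsingleton_stalks _).1
      ((DerivedCategory.isZero_of_isGE _ (a p) i (by have := hn p hp; omega)).of_iso
        (DCohRestrLib.restrictHDIso (V p).ι K i).symm) ⟨x, hxp⟩)

/-- The value at `O` of the right adjoint is a relative dualizing complex. -/
theorem isRelDualizing_rightAdjoint {X S : Scheme.{u}} [CompactSpace S] [QuasiSeparatedSpace S]
    (f : X ⟶ S) [IsProper f] [Flat f] [LocallyOfFinitePresentation f]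
    [DCoh.HasLpull (pullback.fst f f)]
    [PreservesFiniteLimits (Scheme.Modules.pushforward (pullback.diagonal f))]
    [PreservesFiniteColimits (Scheme.Modules.pushforward (pullback.diagonal f))]
    [DCoh.HasRpush f] (hf : DCoh.RpushPreservesQCoh f) (a : DCoh.DQCoh S ⥤ DCoh.DQCoh X)
    (adj : DCoh.RpushQ f hf ⊣ a) (O : DCoh.DQCoh S)
    (hO : Nonempty (O.obj ≅ DCoh.inD S (Coh.structureModule S))) :
    Dual3.IsRelDualizing f (a.obj O).obj := by
  obtain ⟨hpc, htor⟩ := isRelPerfect_rightAdjoint f hf a adj O hO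
  haveI : CompactSpace X := QuasiCompact.compactSpace_of_compactSpace f
  haveI : QuasiSeparatedSpace X := quasiSeparatedSpace_of_quasiSeparated f
  let pr1 := pullback.fst f f
  let pr2 := pullback.snd f f
  let Δ := pullback.diagonal f
  haveI : IsClosedImmersion Δ := inferInstance
  have hΔ : Δ ≫ pr2 = 𝟙 X := pullback.diagonal_snd f
  have hsq : IsPullback pr1 pr2 f f := IsPullback.of_hasPullback f f
  haveI : IsProper pr2 := MorphismProperty.of_isPullback (P := @IsProper) hsq inferInstance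
  haveI : Flat pr1 := MorphismProperty.of_isPullback (P := @Flat) hsq.flip inferInstance
  haveI : CompactSpace ↥(pullback f f) := QuasiCompact.compactSpace_of_compactSpace pr2
  haveI : QuasiSeparatedSpace ↥(pullback f f) := quasiSeparatedSpace_of_quasiSeparated pr2
  haveI : QuasiCompact pr1 := quasiCompact_of_compactSpace _
  haveI := KFlatLib.hasLpull f
  haveI := DCohRestrLib.hasRpush pr1
  haveI := DCohRestrLib.hasRpush pr2
  haveI := DCohRestrLib.hasRpush Δ
  haveI := DCohRestrLib.hasRpush (𝟙 X)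
  haveI := KFlatLib.hasLpull (𝟙 X)
  have h₁ : DCoh.RpushPreservesQCoh pr1 := fun E hE => QRlimLib.isQCohD_rpush _ hE
  have h₂ : DCoh.RpushPreservesQCoh pr2 := fun E hE => QRlimLib.isQCohD_rpush _ hE
  have hΔq : DCoh.RpushPreservesQCoh Δ := fun E hE => QRlimLib.isQCohD_rpush _ hE
  have hid : DCoh.RpushPreservesQCoh (𝟙 X) := fun E hE => QRlimLib.isQCohD_rpush _ hE
  haveI := KoszOrthLib.isLeftAdjoint_rpushQ pr2 h₂
  haveI := KoszOrthLib.isLeftAdjoint_rpushQ Δ hΔq
  let adj₂ := Adjunction.ofIsLeftAdjoint (DCoh.RpushQ pr2 h₂)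
  let adji := Adjunction.ofIsLeftAdjoint (DCoh.RpushQ Δ hΔq)
  let a₂ := (DCoh.RpushQ pr2 h₂).rightAdjoint
  let ai := (DCoh.RpushQ Δ hΔq).rightAdjoint
  -- base change
  have hLf : Dual3.LpullPreservesQCoh f := KFlatLib.isQCohD_lpull f
  have hL1 : Dual3.LpullPreservesQCoh pr1 := KFlatLib.isQCohD_lpull pr1
  let Ag := DualFMLib.adjQ (g := f) hLf hf
  let Ag' := DualFMLib.adjQ (g := pr1) hL1 h₁
  haveI hξ : ∀ M, IsIso (Dual3.xi adj adj₂ (sqQ hsq.w hf h₂ hf h₁) M) := fun M =>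
    BCArbLib.isIso_xi_sqQ_flatMap Ag Ag' hsq adj adj₂ M
  haveI := BCArbLib.isIso_bcMap hsq adj adj₂ Ag Ag' O (hξ _)
  let K' : DCoh.DQCoh (pullback f f) := a₂.obj ((Dual3.LpullQ f hLf).obj O)
  let eK : (DCoh.Lpull pr1).obj (a.obj O).obj ≅ K'.obj :=
    (ObjectProperty.ι _).mapIso (asIso (Dual3.bcMap adj adj₂ (sqQ hsq.w hf h₂ hf h₁) Ag Ag' O (hξ _)))
  -- restriction to the diagonal
  obtain ⟨c₁⟩ := ShriekLib.nonempty_rpushQ_comp Δ pr2 (𝟙 X) hΔ hΔq h₂ hid
  obtain ⟨i₁⟩ := Dual3Lib.nonempty_lpull_id (𝟙 X) rfl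
  let c₂ : DCoh.RpushQ (𝟙 X) hid ≅ 𝟭 _ := ShriekLib.liftIso
    (Functor.isoWhiskerLeft (ObjectProperty.ι _)
      ((KFlatLib.lpullRpushAdj (𝟙 X)).rightAdjointUniq (Adjunction.id.ofNatIsoLeft i₁.symm)))
  let ec : a₂ ⋙ ai ≅ 𝟭 _ :=
    (adji.comp adj₂).rightAdjointUniq (Adjunction.id.ofNatIsoLeft (c₁ ≪≫ c₂).symm)
  obtain ⟨eO⟩ := hO
  let eI : (ai.obj K').obj ≅ DCoh.inD X (Coh.structureModule X) :=
    (ObjectProperty.ι _).mapIso (ec.app _) ≪≫
      (DCoh.Lpull f).mapIso (eO ≪≫ DualFMLib.inDUnit S) ≪≫ KiehlLib.lpullUnitIso f ≪≫ (DualFMLib.inDUnit X).symm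
  have hKb : Dual3.IsBddBelowQ _ K' := by
    obtain ⟨n, hn⟩ := exists_isGE (a.obj O).obj (exists_isGE_self htor)
    haveI := hn
    haveI := DualFMLib.isGE_lpull_flat pr1 (a.obj O).obj n
    exact ⟨n, DerivedCategory.TStructure.t.isGE_of_iso eK n⟩
  haveI : Dual3.HasHomO Δ := Groth.Agent.S3630.result _ _ _
  haveI : EnoughInjectives (pullback f f).Modules := IsGrothendieckAbelian.enoughInjectives.{u}
  have hPC : ImmPCLib.PCPushUnit Δ := fun m => PerfLib.isPC_of_iso
    ((Dual3.pushD Δ).mapIso (DualFMLib.inDUnit X).symm ≪≫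
      ((Scheme.Modules.pushforward Δ).mapDerivedCategorySingleFunctor 0).app (Coh.structureModule X))
    (isPC_pushD_diagonal f m)
  obtain ⟨r⟩ := RHomOLib.nonempty_rightAdjoint_iso Δ hPC hΔq ai adji
  obtain ⟨ε, hε⟩ := RHomOLib.exists_counit Δ
  let KP := (Dual3.bddToPlus _).obj ⟨K', hKb⟩
  let u : DCoh.inD X (Coh.structureModule X) ≅ ((Dual3.RHomOPlus Δ).obj KP).obj := eI.symm ≪≫ r.app ⟨K', hKb⟩
  let ξ : (Dual3.pushD Δ).obj (DCoh.inD X (Coh.structureModule X)) ⟶
      (DCoh.Lpull pr1).obj (a.obj O).obj :=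
    (Dual3.pushD Δ).map u.hom ≫ ε.app KP ≫ eK.inv
  refine ⟨ξ, hpc, htor, fun M k => ShriekLib.bijective_shift_counit (Dual3.pushD Δ) _ ξ (fun M => ?_) M k⟩
  have h1 : (fun φ : M ⟶ DCoh.inD X (Coh.structureModule X) => (Dual3.pushD Δ).map φ ≫ ξ) =
      (fun g => g ≫ eK.inv) ∘ (fun g => (Dual3.pushD Δ).map g ≫ ε.app KP) ∘ fun φ => φ ≫ u.hom := by
    funext φ
    simp [ξ]
  rw [h1]
  exact Function.Bijective.comp ⟨fun a b h => (cancel_mono eK.inv).1 h, fun g => ⟨g ≫ eK.hom, by simp⟩⟩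
    ((hε M KP).comp ⟨fun a b h => (cancel_mono u.hom).1 h, fun g => ⟨g ≫ u.inv, by simp⟩⟩)

end Groth.Agent.RigidLib
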