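import Groth.Agent.BCArbLib.Tau
import Groth.Agent.DualFMLib.FlatHom.Glob
import Groth.Agent.DCohRestrLib.RHomRestr
import Groth.Agent.FMKLib.DualPhi
import Groth.Agent.KFlatLib.LpullComp
import Groth.Agent.Dual3Lib.KernelAdj

/-!
# The internal Hom and open immersions
-/

set_option autoImplicit false
set_option linter.style.haveILetI false
set_option linter.unusedSectionVars false
set_option backward.isDefEq.respectTransparency false
set_option backward.isDefEq.respectTransparency.types false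
set_option maxHeartbeats 1000000
set_option synthInstance.maxHeartbeats 200000

universe u

open CategoryTheory CategoryTheory.Limits AlgebraicGeometry
open Groth.Agent Groth.Agent.DerLib Groth.Agent.PerfDualLib

attribute [local instance] HasDerivedCategory.standard

noncomputable section

namespace Groth.Agent.RigidLib

/-- The unit of `h^* ⊣ h_*` for an isomorphism. -/
theorem isIso_unit_of_isIso {X X' : Scheme.{u}} (h : X' ⟶ X) [IsIso h] [DCoh.HasLpull h] [DCoh.HasRpush h]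
    (L : DCoh.D X) : IsIso ((KFlatLib.lpullRpushAdj h).unit.app L) := by
  let adj := KFlatLib.lpullRpushAdj h
  haveI := KoszOrthLib.isIso_counit h (KoszOrthLib.restrictRpushAdj h)
  haveI : (DCoh.Rpush h).Full := (KoszOrthLib.restrictRpushAdj h).fullyFaithfulROfIsIsoCounit.full
  haveI : (DCoh.Rpush h).Faithful := (KoszOrthLib.restrictRpushAdj h).fullyFaithfulROfIsIsoCounit.faithful
  haveI : IsIso adj.counit := inferInstance
  haveI h1 : IsIso ((DCoh.Lpull h).map (adj.unit.app L)) := by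
    haveI : IsIso ((DCoh.Lpull h).map (adj.unit.app L) ≫ adj.counit.app ((DCoh.Lpull h).obj L)) := by
      rw [adj.left_triangle_components L]
      exact IsIso.id _
    exact IsIso.of_isIso_comp_right _ (adj.counit.app ((DCoh.Lpull h).obj L))
  haveI := KFlatLib.hasLpull (inv h)
  haveI := KFlatLib.hasLpull (inv h ≫ h)
  haveI := KFlatLib.hasLpull (𝟙 X)
  obtain ⟨c⟩ := KFlatLib.lpull_comp (inv h) h
  obtain ⟨d⟩ := Dual3Lib.nonempty_lpull_congr_nat (IsIso.inv_hom_id h)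
  obtain ⟨i⟩ := Dual3Lib.nonempty_lpull_id (𝟙 X) rfl
  refine (NatIso.isIso_map_iff (c ≪≫ d ≪≫ i) (adj.unit.app L)).1 ?_
  exact inferInstanceAs (IsIso ((DCoh.Lpull (inv h)).map ((DCoh.Lpull h).map (adj.unit.app L))))

/-- The internal Hom commutes with an isomorphism. -/
theorem nonempty_rSheafHom_isIso {X X' : Scheme.{u}} (h : X' ⟶ X) [IsIso h] [DCoh.HasLpull h]
    (E : Cx X) (hE : DCoh.IsKFlat E) [DCoh.HasLTensorCx E] [DCoh.HasRSheafHom E]
    [DCoh.HasLTensorCx ((KFlatLib.pullCx h).obj E)] [DCoh.HasRSheafHom ((KFlatLib.pullCx h).obj E)]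
    (L : DCoh.D X) :
    Nonempty ((DCoh.Lpull h).obj ((DCoh.RSheafHom E).obj L) ≅
      (DCoh.RSheafHom ((KFlatLib.pullCx h).obj E)).obj ((DCoh.Lpull h).obj L)) := by
  haveI := DCohRestrLib.hasRpush h
  let adj := KFlatLib.lpullRpushAdj h
  let τ := BCArbLib.tau h E hE
  let η := ((((DCoh.RSheafHomAdj E).comp adj).ofNatIsoLeft τ).rightAdjointUniq
    (adj.comp (DCoh.RSheafHomAdj ((KFlatLib.pullCx h).obj E))))
  haveI := isIso_unit_of_isIso h L
  haveI := KoszOrthLib.isIso_counit h (KoszOrthLib.restrictRpushAdj h)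
  haveI : (DCoh.Rpush h).Full := (KoszOrthLib.restrictRpushAdj h).fullyFaithfulROfIsIsoCounit.full
  haveI : (DCoh.Rpush h).Faithful := (KoszOrthLib.restrictRpushAdj h).fullyFaithfulROfIsIsoCounit.faithful
  exact ⟨(DCoh.Lpull h).mapIso ((DCoh.RSheafHom E).mapIso (asIso (adj.unit.app L)) ≪≫ η.app _) ≪≫
    asIso (adj.counit.app _)⟩

/-- The internal Hom commutes with an open immersion. -/
theorem nonempty_rSheafHom_lpull {X X' : Scheme.{u}} (q : X' ⟶ X) [IsOpenImmersion q] [DCoh.HasLpull q]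
    (E : Cx X) (hE : DCoh.IsKFlat E) [DCoh.HasLTensorCx E] [DCoh.HasRSheafHom E]
    (N' : Cx X') [DCoh.HasLTensorCx N'] [DCoh.HasRSheafHom N']
    (eN : DerivedCategory.Q.obj N' ≅ (DCoh.Lpull q).obj (DerivedCategory.Q.obj E)) (L : DCoh.D X) :
    Nonempty ((DCoh.Lpull q).obj ((DCoh.RSheafHom E).obj L) ≅
      (DCoh.RSheafHom N').obj ((DCoh.Lpull q).obj L)) := by
  let W := q.opensRange
  let σ := q.isoOpensRange.hom
  haveI := KFlatLib.hasLpull W.ι
  haveI := KFlatLib.hasLpull σ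
  haveI := KFlatLib.hasLpull (σ ≫ W.ι)
  haveI := DCohRestrLib.hasRpush W.ι
  let EW := (DCohRestrLib.resCx W).obj E
  haveI := KFlatLib.hasLTensorCx EW
  haveI := BidualSchLib.hasRSheafHom EW
  obtain ⟨ρ⟩ := DCohRestrLib.nonempty_restrict_RSheafHom W E
  let rW : DCoh.Lpull W.ι ≅ DCoh.restrictD W.ι := DualFMLib.lpullRestrIso W.ι
  let EP := (KFlatLib.pullCx W.ι).obj E
  have hEP : DCoh.IsKFlat EP := KFlatLib.isKFlat_pull W.ι hE
  haveI := KFlatLib.hasLTensorCx EP
  haveI := BidualSchLib.hasRSheafHom EP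
  obtain ⟨c₁⟩ := FMKLib.nonempty_rSheafHom_congr (K := EW) (K' := EP)
    (((Scheme.Modules.restrictFunctor W.ι).mapDerivedCategoryFactors.app E).symm ≪≫
      (rW.app _).symm ≪≫ KFlatLib.lpullObjIso W.ι E hE) ((DCoh.Lpull W.ι).obj L)
  let ES := (KFlatLib.pullCx σ).obj EP
  haveI := KFlatLib.hasLTensorCx ES
  haveI := BidualSchLib.hasRSheafHom ES
  obtain ⟨i⟩ := nonempty_rSheafHom_isIso σ EP hEP ((DCoh.Lpull W.ι).obj L)
  obtain ⟨l⟩ := KFlatLib.lpull_comp σ W.ι
  obtain ⟨d⟩ := Dual3Lib.nonempty_lpull_congr_nat (q.isoOpensRange_hom_ι)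
  let e : DCoh.Lpull W.ι ⋙ DCoh.Lpull σ ≅ DCoh.Lpull q := l ≪≫ d
  obtain ⟨c₂⟩ := FMKLib.nonempty_rSheafHom_congr (K := ES) (K' := N')
    ((KFlatLib.lpullObjIso σ EP hEP).symm ≪≫
      (DCoh.Lpull σ).mapIso (KFlatLib.lpullObjIso W.ι E hE).symm ≪≫ e.app _ ≪≫ eN.symm)
    ((DCoh.Lpull q).obj L)
  exact ⟨(e.app _).symm ≪≫ (DCoh.Lpull σ).mapIso (rW.app _ ≪≫ ρ.app L ≪≫
      (DCoh.RSheafHom EW).mapIso (rW.app L).symm ≪≫ c₁) ≪≫ i ≪≫
    (DCoh.RSheafHom ES).mapIso (e.app L) ≪≫ c₂⟩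

end Groth.Agent.RigidLib
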