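import Groth.Agent.RigidLib.Global
import Groth.Agent.RigidLib.Open
import Groth.Agent.RelFlatLib.Local
import Groth.Agent.LpullTildeLib.Main
import Groth.Agent.TildeDerLib.Affine
import Groth.Agent.TildeDerLib.Push
import Groth.Agent.TwoTermLib.BCAdj
import Groth.Agent.DRingLib.LBaseChange
import Groth.Agent.KoszOrthLib.Section
import Groth.Agent.FlatRelPCLib.Basic
import Groth.Agent.PerfFibreLib.Spec
import Groth.Agent.ShriekRingLib.FlatRange
import Groth.Prelude.Def_DTen4
import Groth.Agent.S7264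
import Groth.Agent.S1793

/-!
# The module of a rigid object on an affine chart
-/

set_option autoImplicit false
set_option linter.style.haveILetI false
set_option linter.unusedSectionVars false
set_option backward.isDefEq.respectTransparency false
set_option backward.isDefEq.respectTransparency.types false
set_option maxHeartbeats 1000000
set_option synthInstance.maxHeartbeats 200000

universe u

open CategoryTheory CategoryTheory.Limits AlgebraicGeometry
open Groth.Agent Groth.Agent.DerLib Groth.Agent.PerfDualLib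
open scoped TensorProduct

attribute [local instance] HasDerivedCategory.standard

noncomputable section

namespace Groth.Agent.RigidLib

/-- Restriction along a surjection detects the ring. -/
theorem nonempty_iso_inD_of_res {B A : Type u} [CommRing B] [CommRing A] (μ : B →+* A)
    (hμ : Function.Surjective μ) (Z : Dual.D A)
    (e : (DRing.restrictD μ).obj Z ≅ (DRing.restrictD μ).obj (Dual.inD A A)) :
    Nonempty (Z ≅ Dual.inD A A) := by
  let F := ModuleCat.restrictScalars.{u} μ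
  let hI : ∀ i : ℤ, F.obj ((DerivedCategory.homologyFunctor (ModuleCat.{u} A) i).obj Z) ≅
      F.obj ((DerivedCategory.homologyFunctor (ModuleCat.{u} A) i).obj (Dual.inD A A)) := fun i =>
    ((DerLib.ExactHomology.homologyIso F i).app Z).symm ≪≫
      (DerivedCategory.homologyFunctor (ModuleCat.{u} B) i).mapIso e ≪≫
      (DerLib.ExactHomology.homologyIso F i).app (Dual.inD A A)
  have hzero : ∀ i : ℤ, i ≠ 0 → IsZero ((DerivedCategory.homologyFunctor (ModuleCat.{u} A) i).obj Z) := by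
    intro i hi
    haveI : (Dual.inD A A).IsGE 0 := inferInstance
    haveI : (Dual.inD A A).IsLE 0 := inferInstance
    have h0 : IsZero ((DerivedCategory.homologyFunctor (ModuleCat.{u} A) i).obj (Dual.inD A A)) := by
      rcases lt_or_gt_of_ne hi with h | h
      · exact DerivedCategory.isZero_of_isGE _ 0 i h
      · exact DerivedCategory.isZero_of_isLE _ 0 i h
    haveI := ModuleCat.subsingleton_of_isZero ((F.map_isZero h0).of_iso (hI i))
    exact @ModuleCat.isZero_of_subsingleton _ _ _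
      (inferInstanceAs (Subsingleton (F.obj ((DerivedCategory.homologyFunctor (ModuleCat.{u} A) i).obj Z))))
  haveI : Z.IsGE 0 := (DerivedCategory.isGE_iff _ _).2 fun i hi => hzero i (by omega)
  haveI : Z.IsLE 0 := (DerivedCategory.isLE_iff _ _).2 fun i hi => hzero i (by omega)
  obtain ⟨M, ⟨eM⟩⟩ := DerivedCategory.exists_iso_singleFunctor_obj_of_isGE_of_isLE Z 0
  let l : F.obj M ≅ F.obj (ModuleCat.of A A) :=
    F.mapIso (((DerivedCategory.homologyFunctor (ModuleCat.{u} A) 0).mapIso eM ≪≫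
      (DerivedCategory.singleFunctorCompHomologyFunctorIso (ModuleCat.{u} A) 0).app M).symm) ≪≫ hI 0 ≪≫
      F.mapIso ((DerivedCategory.singleFunctorCompHomologyFunctorIso (ModuleCat.{u} A) 0).app (ModuleCat.of A A))
  let le := l.toLinearEquiv
  let lA : M ≃ₗ[A] A :=
    { toFun := fun x => le x
      invFun := fun x => le.symm x
      map_add' := fun x y => le.map_add x y
      map_smul' := fun a x => by
        obtain ⟨b, rfl⟩ := hμ a
        exact le.map_smul b x
      left_inv := fun x => le.symm_apply_apply x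
      right_inv := fun x => le.apply_symm_apply x }
  exact ⟨eM ≪≫ (DerivedCategory.singleFunctor (ModuleCat.{u} A) 0).mapIso lA.toModuleIso⟩

/-- The closed immersion of a chart into the square of a chart. -/
theorem isPullback_of_mono {X S T P : Scheme.{u}} {d : T ⟶ P} {j : T ⟶ X} (Δ : X ⟶ S) (q : P ⟶ S)
    [Mono j] (p₁ p₂ : P ⟶ T) (π₁ π₂ : S ⟶ X) (w : d ≫ q = j ≫ Δ) (h₁ : q ≫ π₁ = p₁ ≫ j)
    (h₂ : q ≫ π₂ = p₂ ≫ j) (hΔ₁ : Δ ≫ π₁ = 𝟙 X) (hΔ₂ : Δ ≫ π₂ = 𝟙 X)
    (hext : ∀ {Z : Scheme.{u}} (a b : Z ⟶ P), a ≫ p₁ = b ≫ p₁ → a ≫ p₂ = b ≫ p₂ → a = b)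
    (hd₁ : d ≫ p₁ = 𝟙 T) (hd₂ : d ≫ p₂ = 𝟙 T) : IsPullback j d Δ q := by
  refine ⟨⟨w.symm⟩, ⟨PullbackCone.IsLimit.mk _ (fun s => s.snd ≫ p₁) (fun s => ?_) (fun s => ?_)
    fun s m hm₁ hm₂ => ?_⟩⟩
  · rw [Category.assoc, ← h₁, ← Category.assoc, ← s.condition, Category.assoc, hΔ₁, Category.comp_id]
  · refine hext _ _ (by rw [Category.assoc, hd₁, Category.comp_id]) ?_
    rw [Category.assoc, hd₂, Category.comp_id, ← cancel_mono j, Category.assoc, ← h₁, Category.assoc, ← h₂,
      ← reassoc_of% s.condition, hΔ₁, ← reassoc_of% s.condition, hΔ₂]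
  · rw [← hm₂, Category.assoc, hd₁, Category.comp_id]

variable {X S : Scheme.{u}} {f : X ⟶ S} [Flat f] [LocallyOfFinitePresentation f] [IsSeparated f]
  [DCoh.HasLpull (pullback.fst f f)]
  [PreservesFiniteLimits (Scheme.Modules.pushforward (pullback.diagonal f))]
  [PreservesFiniteColimits (Scheme.Modules.pushforward (pullback.diagonal f))]
  {K : DCoh.D X}

attribute [local instance] FlatRelPCLib.tildeExact

/-- On an affine chart a rigid object has only scalars as endomorphisms. -/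
theorem exists_chart_toEnd (hK : Dual3.IsRelDualizing f K) {U : X.Opens} (hU : IsAffineOpen U)
    {T : S.Opens} (hT : IsAffineOpen T) (e : U ≤ f ⁻¹ᵁ T) :
    ∃ M : Dual.D Γ(X, U), FlatRelPCLib.Mod K hU M ∧
      (Function.Bijective fun a : Γ(X, U) => a • 𝟙 M) ∧ ∀ i : ℤ, i ≠ 0 → Subsingleton (M ⟶ M⟦i⟧) := by
  obtain ⟨ξ, hpair⟩ := hK
  obtain ⟨hpc, htor, -⟩ := id hpair
  have hKq := KiehlLib.isQCohD_of_isPC hpc
  obtain ⟨M, hM⟩ := FlatRelPCLib.exists_mod hKq hU
  obtain ⟨eM⟩ := id hM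
  let R := Γ(S, T)
  let A := Γ(X, U)
  letI : Algebra R A := (f.appLE T U e).hom.toAlgebra
  haveI : Module.Flat R A := f.flat_appLE hT hU e
  haveI : Algebra.FinitePresentation R A := f.finitePresentation_appLE hT hU e
  have hMp : Dual2.IsRelPerfect R A M := (Groth.Agent.S7264.result _ _ M).1
    ⟨fun m => PerfLib.isPC_of_iso eM.symm (PerfLib.isPC_res (hpc m) hU.fromSpec), by
      haveI : Flat (Spec.map (CommRingCat.ofHom (algebraMap R A))) :=
        Flat.SpecMap_iff.2 ((RingHom.flat_algebraMap_iff).2 ‹Module.Flat R A›)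
      refine (RelFlatLib.loc_iff_ampD _).2 fun y => ?_
      obtain ⟨W, a, b, hy, hW⟩ := (RelFlatLib.loc_iff_ampD _).1 (RelFlatLib.loc_chart f hU hT e htor) y
      exact ⟨W, a, b, hy, fun y' hy' => RelFlatLib.ampD_of_iso _ eM.symm (hW y' hy')⟩⟩
  let B := A ⊗[R] A
  let iL : A →+* B := Algebra.TensorProduct.includeLeftRingHom
  let μ : B →+* A := (Algebra.TensorProduct.lmul' R (S := A)).toRingHom
  have hμ : Function.Surjective μ := fun a =>
    ⟨a ⊗ₜ 1, (Algebra.TensorProduct.lmul'_apply_tmul a 1).trans (mul_one a)⟩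
  haveI := DRingLib.hasLBaseChange iL
  haveI := DRingLib.hasLBaseChange μ
  obtain ⟨⟨Rμ, adjμ⟩⟩ := _root_.ShriekRingLib.exists_rightAdjoint μ
  refine ⟨M, hM, Groth.Agent.S1793.result R A Rμ adjμ M ⟨hMp, ?_⟩⟩
  -- the chart of the square
  let jA := hU.fromSpec
  let jR := hT.fromSpec
  let gA := Spec.map (CommRingCat.ofHom (algebraMap R A))
  have hgA : gA ≫ jR = jA ≫ f := IsAffineOpen.SpecMap_appLE_fromSpec f hT hU e
  let q : Spec (CommRingCat.of B) ⟶ pullback f f :=
    (pullbackSpecIso R A A).inv ≫ pullback.map gA gA f f jA jA jR hgA hgA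
  haveI : IsOpenImmersion q := inferInstance
  let dA := Spec.map (CommRingCat.ofHom μ)
  let p₁ := Spec.map (CommRingCat.ofHom iL)
  let p₂ := Spec.map (CommRingCat.ofHom
    ((Algebra.TensorProduct.includeRight : A →ₐ[R] B).toRingHom))
  have hq₁ : q ≫ pullback.fst f f = p₁ ≫ jA := by
    rw [Category.assoc, pullback.map, pullback.lift_fst, ← Category.assoc, pullbackSpecIso_inv_fst]
  have hq₂ : q ≫ pullback.snd f f = p₂ ≫ jA := by
    rw [Category.assoc, pullback.map, pullback.lift_snd, ← Category.assoc, pullbackSpecIso_inv_snd]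
    rfl
  have hd₁ : dA ≫ p₁ = 𝟙 _ := by
    rw [← Spec.map_comp, ← Spec.map_id]
    exact congrArg Spec.map (CommRingCat.hom_ext (RingHom.ext fun a =>
      (Algebra.TensorProduct.lmul'_apply_tmul a 1).trans (mul_one a)))
  have hd₂ : dA ≫ p₂ = 𝟙 _ := by
    rw [← Spec.map_comp, ← Spec.map_id]
    exact congrArg Spec.map (CommRingCat.hom_ext (RingHom.ext fun a =>
      (Algebra.TensorProduct.lmul'_apply_tmul 1 a).trans (one_mul a)))
  let Δ := pullback.diagonal f
  have w : dA ≫ q = jA ≫ Δ := by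
    refine pullback.hom_ext ?_ ?_
    · rw [Category.assoc, hq₁, reassoc_of% hd₁, Category.assoc, pullback.diagonal_fst, Category.comp_id]
    · rw [Category.assoc, hq₂, reassoc_of% hd₂, Category.assoc, pullback.diagonal_snd, Category.comp_id]
  have hext : ∀ {Z : Scheme.{u}} (a b : Z ⟶ Spec (CommRingCat.of B)),
      a ≫ p₁ = b ≫ p₁ → a ≫ p₂ = b ≫ p₂ → a = b := fun a b h₁ h₂ => by
    rw [← cancel_mono (pullbackSpecIso R A A).inv]
    refine pullback.hom_ext ?_ ?_
    · rw [Category.assoc, Category.assoc, pullbackSpecIso_inv_fst]; exact h₁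
    · rw [Category.assoc, Category.assoc, pullbackSpecIso_inv_snd]; exact h₂
  have H : IsPullback jA dA Δ q := isPullback_of_mono Δ q p₁ p₂ _ _ w hq₁ hq₂
    (pullback.diagonal_fst f) (pullback.diagonal_snd f) hext hd₁ hd₂
  -- the kernels
  haveI : IsClosedImmersion Δ := inferInstance
  haveI : IsClosedImmersion dA := IsClosedImmersion.spec_of_surjective _ hμ
  haveI := DCohRestrLib.hasRpush Δ
  haveI := DCohRestrLib.hasRpush dA
  haveI := KFlatLib.hasLpull q
  haveI := KFlatLib.hasLpull jA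
  haveI := KFlatLib.hasLpull dA
  haveI := KFlatLib.hasLpull p₁
  haveI := KFlatLib.hasLpull (q ≫ pullback.fst f f)
  haveI := KFlatLib.hasLpull (p₁ ≫ jA)
  obtain ⟨N, hN, ⟨eN⟩⟩ := exists_kFlat_model ((DCoh.Rpush Δ).obj (DerivedCategory.Q.obj (unitCx X)))
  haveI := KFlatLib.hasLTensorCx N
  haveI := BidualSchLib.hasRSheafHom N
  obtain ⟨g₁⟩ := nonempty_rSheafHom_diagonal f hpair N eN
  let oX : DCoh.inD X (Coh.structureModule X) ≅ DerivedCategory.Q.obj (unitCx X) :=
    (DerivedCategory.singleFunctorIsoCompQ X.Modules 0).app _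
  have hXq : DCoh.IsQCohD (DerivedCategory.Q.obj (unitCx X)) :=
    KFlatLib.isQCohD_iso oX (Dual3Lib.unitQ X).property
  obtain ⟨bc⟩ := DualFMLib.nonempty_bcNat H (Or.inr inferInstance)
  let eP : (DCoh.Lpull q).obj ((DCoh.Rpush Δ).obj (DerivedCategory.Q.obj (unitCx X))) ≅
      (DCoh.Rpush dA).obj (DerivedCategory.Q.obj (unitCx (Spec (CommRingCat.of A)))) :=
    bc.app ⟨_, hXq⟩ ≪≫ (DCoh.Rpush dA).mapIso (KiehlLib.lpullUnitIso jA)
  let NB := (KFlatLib.pullCx q).obj N
  haveI := KFlatLib.hasLTensorCx NB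
  haveI := BidualSchLib.hasRSheafHom NB
  let eNB : DerivedCategory.Q.obj NB ≅
      (DCoh.Rpush dA).obj (DerivedCategory.Q.obj (unitCx (Spec (CommRingCat.of A)))) :=
    (KFlatLib.lpullObjIso q N hN).symm ≪≫ (DCoh.Lpull q).mapIso eN ≪≫ eP
  let L := (DCoh.Lpull (pullback.fst f f)).obj K
  obtain ⟨g₂⟩ := nonempty_rSheafHom_lpull q N hN NB (KFlatLib.lpullObjIso q N hN).symm L
  obtain ⟨sA⟩ := KoszOrthLib.nonempty_tildeD_single_self (CommRingCat.of A)
  haveI := FlatRelPCLib.tildeExact (CommRingCat.of A)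
  haveI := FlatRelPCLib.tildeExact (CommRingCat.of B)
  obtain ⟨tp⟩ := TildeDerLib.nonempty_rpushTildeDIso (CommRingCat.ofHom μ)
  let oA : DCoh.inD _ (Coh.structureModule (Spec (CommRingCat.of A))) ≅
      DerivedCategory.Q.obj (unitCx (Spec (CommRingCat.of A))) :=
    (DerivedCategory.singleFunctorIsoCompQ _ 0).app _
  let uA : DerivedCategory.Q.obj ((CochainComplex.singleFunctor (ModuleCat.{u} A) 0).obj (ModuleCat.of A A)) ≅
      Dual.inD A A := ((DerivedCategory.singleFunctorIsoCompQ (ModuleCat.{u} A) 0).app _).symm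
  let gR : (DCoh.RSheafHom NB).obj ((DCoh.Lpull q).obj L) ≅
      (DCoh.tildeD (CommRingCat.of B)).obj ((DRing.restrictD μ).obj (Dual.inD A A)) :=
    g₂.symm ≪≫ (DCoh.Lpull q).mapIso (g₁ ≪≫ (DCoh.Rpush Δ).mapIso oX) ≪≫ eP ≪≫
      (DCoh.Rpush dA).mapIso (oA.symm ≪≫ sA.symm) ≪≫ tp.app _ ≪≫
      (DCoh.tildeD (CommRingCat.of B)).mapIso ((DRing.restrictD μ).mapIso uA)
  -- the pulled back object
  let K' := (DRing.LBaseChange iL).obj M
  obtain ⟨t₁⟩ := LpullTildeLib.nonempty_iso iL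
  obtain ⟨r₁⟩ := PerfFibreLib.nonempty_lpull_res jA K
  obtain ⟨c₁⟩ := KFlatLib.lpull_comp q (pullback.fst f f)
  obtain ⟨c₂⟩ := KFlatLib.lpull_comp p₁ jA
  obtain ⟨d⟩ := PerfFibreLib.nonempty_lpull_congr hq₁ K
  let gL : (DCoh.tildeD (CommRingCat.of B)).obj K' ≅ (DCoh.Lpull q).obj L :=
    t₁.app M ≪≫ (DCoh.Lpull p₁).mapIso (eM ≪≫ r₁.symm) ≪≫ c₂.app K ≪≫ d.symm ≪≫ (c₁.app K).symm
  -- the comparison of the two functors
  haveI := KFlatLib.hasLTensorCx (unitCx (Spec (CommRingCat.of A)))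
  have hAq : DCoh.IsQCohD (DerivedCategory.Q.obj (unitCx (Spec (CommRingCat.of A)))) :=
    KFlatLib.isQCohD_iso oA (Dual3Lib.unitQ _).property
  obtain ⟨pB⟩ := DualFMLib.nonempty_projNat₂ dA (unitCx _) hAq NB eNB
  obtain ⟨uB⟩ := BCArbLib.nonempty_lTensor_unit_id (Spec (CommRingCat.of A))
  obtain ⟨t₂⟩ := LpullTildeLib.nonempty_iso μ
  let F := ObjectProperty.lift (DCoh.IsQCohD (X := Spec (CommRingCat.of B))) (DCoh.tildeD (CommRingCat.of B))
    fun Z => TildeDerLib.isQCohD_tildeD (CommRingCat.of B) Z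
  let eF := ObjectProperty.liftCompιIso (DCoh.IsQCohD (X := Spec (CommRingCat.of B)))
    (DCoh.tildeD (CommRingCat.of B)) fun Z => TildeDerLib.isQCohD_tildeD (CommRingCat.of B) Z
  let κ : DCoh.tildeD (CommRingCat.of B) ⋙ DCoh.LTensorCx NB ≅
      DRing.LBaseChange μ ⋙ DRing.restrictD μ ⋙ DCoh.tildeD (CommRingCat.of B) :=
    Functor.isoWhiskerRight eF.symm _ ≪≫ Functor.associator _ _ _ ≪≫ Functor.isoWhiskerLeft F
      (pB ≪≫ Functor.isoWhiskerLeft _ (Functor.isoWhiskerLeft _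
        (Functor.isoWhiskerRight uB (DCoh.Rpush dA) ≪≫ Functor.leftUnitor _))) ≪≫
      (Functor.associator _ _ _).symm ≪≫ Functor.isoWhiskerRight eF _ ≪≫ (Functor.associator _ _ _).symm ≪≫
      Functor.isoWhiskerRight t₂.symm _ ≪≫ Functor.associator _ _ _ ≪≫ Functor.isoWhiskerLeft _ tp
  let η := (((TildeDerLib.adjD (CommRingCat.of B)).comp (DCoh.RSheafHomAdj NB)).ofNatIsoLeft κ).rightAdjointUniq
    ((TwoTermLib.BCAdj.adjunction μ).comp (adjμ.comp (TildeDerLib.adjD (CommRingCat.of B))))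
  let Γt := (asIso (TildeDerLib.adjD (CommRingCat.of B)).unit)
  refine nonempty_iso_inD_of_res μ hμ _ ?_
  exact (DRing.restrictD μ).mapIso (Rμ.mapIso (Γt.app K' ≪≫
      (TildeDerLib.RGamma (CommRingCat.of B)).mapIso gL)) ≪≫ (η.app _).symm ≪≫
    (TildeDerLib.RGamma (CommRingCat.of B)).mapIso gR ≪≫ (Γt.app _).symm

end Groth.Agent.RigidLib
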