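import Groth.Agent.RHomOLib.Adjoint
import Groth.Agent.RelPCSchLib.Immersion
import Groth.Agent.RelFlatLib.Absolute
import Groth.Agent.RelFlatLib.RelOpen
import Groth.Agent.DualFMLib.Nat
import Groth.Agent.DualFMLib.FlatHom.PC
import Groth.Agent.DCohRestrLib.RHomRestr
import Groth.Agent.PerfBaseLib.FlatProper
import Groth.Agent.KFlatLib.LpullComp
import Groth.Agent.KiehlLib.Base
import Groth.Agent.S1115
import Groth.Agent.BCArbLib.Deg
import Groth.Prelude.Def_Dual3

/-!
# The internal Hom out of the diagonal of a rigid object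
-/

set_option autoImplicit false
set_option linter.style.haveILetI false
set_option linter.unusedSectionVars false
set_option backward.isDefEq.respectTransparency false
set_option backward.isDefEq.respectTransparency.types false
set_option maxHeartbeats 1000000
set_option synthInstance.maxHeartbeats 200000

universe u

open CategoryTheory CategoryTheory.Limits AlgebraicGeometry
open Groth.Agent Groth.Agent.DerLib Groth.Agent.PerfDualLib

attribute [local instance] HasDerivedCategory.standard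

noncomputable section

namespace Groth.Agent.RigidLib

variable {X S : Scheme.{u}} (f : X ⟶ S) [Flat f] [LocallyOfFinitePresentation f] [IsSeparated f]

/-- The rigidity bijection in degree zero. -/
theorem bijective_zero {C D : Type*} [Category* C] [Category* D] [HasShift C ℤ] [HasShift D ℤ]
    (F : C ⥤ D) [F.CommShift ℤ] (O : C) {K : D} (ξ : F.obj O ⟶ K) (M : C)
    (h : Function.Bijective fun φ : M ⟶ O⟦(0 : ℤ)⟧ =>
      F.map φ ≫ (F.commShiftIso (0 : ℤ)).hom.app O ≫ (shiftFunctor D (0 : ℤ)).map ξ) :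
    Function.Bijective fun φ : M ⟶ O => F.map φ ≫ ξ := by
  let z := (shiftFunctorZero C ℤ).app O
  let z' := (shiftFunctorZero D ℤ).app K
  have e : (fun φ : M ⟶ O => F.map φ ≫ ξ) = (fun w => w ≫ z'.hom) ∘
      (fun φ : M ⟶ O⟦(0 : ℤ)⟧ => F.map φ ≫ (F.commShiftIso (0 : ℤ)).hom.app O ≫
        (shiftFunctor D (0 : ℤ)).map ξ) ∘ fun φ => φ ≫ z.inv := by
    funext φ
    simp [z, z', Functor.commShiftIso_zero]
  rw [e]
  exact ((z'.homToEquiv).bijective).comp (h.comp z.symm.homToEquiv.bijective)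

/-- The structure sheaf of the diagonal is pseudo-coherent. -/
theorem isPC_pushD_diagonal [PreservesFiniteLimits (Scheme.Modules.pushforward (pullback.diagonal f))]
    [PreservesFiniteColimits (Scheme.Modules.pushforward (pullback.diagonal f))] (m : ℤ) :
    DCoh.IsPseudoCoherentD m
      ((Dual3.pushD (pullback.diagonal f)).obj (DerivedCategory.Q.obj (unitCx X))) := by
  haveI : IsClosedImmersion (pullback.diagonal f) := inferInstance
  have h := (RelPCSchLib.rel_immersion_comp_iff (pullback.diagonal f) (pullback.snd f f) m (unitCx X)).1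
  rw [pullback.diagonal_snd] at h
  refine PerfLib.isPC_of_iso
    ((Scheme.Modules.pushforward (pullback.diagonal f)).mapDerivedCategoryFactors.app (unitCx X)).symm
    (h.1 ((RelFlatLib.rel_id_iff (𝟙 X) m _).2
      (RelFlatLib.isPC_of_isPerfect (PerfBaseLib.isPerfect_unitCx X) m)))

variable [DCoh.HasLpull (pullback.fst f f)]
  [PreservesFiniteLimits (Scheme.Modules.pushforward (pullback.diagonal f))]
  [PreservesFiniteColimits (Scheme.Modules.pushforward (pullback.diagonal f))]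

/-- The pullback of a relatively perfect object is locally bounded below. -/
theorem exists_isGE_nhd {K : DCoh.D X} (hK : DCoh.LocHasFiniteRelTorDim f K) (p : ↥(pullback f f)) :
    ∃ (W : (pullback f f).Opens) (c : ℤ), p ∈ W ∧
      ((DCoh.restrictD W.ι).obj ((DCoh.Lpull (pullback.fst f f)).obj K)).IsGE c := by
  let pr := pullback.fst f f
  obtain ⟨V, a, b, hx, hV⟩ := hK (pr p)
  obtain ⟨F, ⟨eF⟩⟩ : ∃ F : Cx X, Nonempty (DCoh.toD X F ≅ K) := ⟨_, ⟨DerivedCategory.Q.objObjPreimageIso K⟩⟩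
  obtain ⟨G, hG, -, ⟨eG⟩⟩ := hV F ⟨eF⟩
  haveI : G.IsStrictlyGE a := (CochainComplex.isStrictlyGE_iff G a).2 fun i hi => hG i (Or.inl hi)
  haveI : ((DCoh.restrictD V.ι).obj K).IsGE a := by
    haveI : (DerivedCategory.Q.obj G).IsGE a := inferInstance
    exact DerivedCategory.TStructure.t.isGE_of_iso
      (eG ≪≫ ((Scheme.Modules.restrictFunctor V.ι).mapDerivedCategoryFactors.app F).symm ≪≫
        (DCoh.restrictD V.ι).mapIso eF) a
  let W := pr ⁻¹ᵁ V
  let q := pr ∣_ V
  haveI : Flat q := MorphismProperty.of_isPullback (P := @Flat) (isPullback_morphismRestrict pr V).flip inferInstance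
  haveI := KFlatLib.hasLpull W.ι
  haveI := KFlatLib.hasLpull V.ι
  haveI := KFlatLib.hasLpull q
  haveI := KFlatLib.hasLpull (q ≫ V.ι)
  haveI := KFlatLib.hasLpull (W.ι ≫ pr)
  obtain ⟨c₁⟩ := KFlatLib.lpull_comp W.ι pr
  obtain ⟨c₂⟩ := KFlatLib.lpull_comp q V.ι
  obtain ⟨d⟩ := Dual3Lib.nonempty_lpull_congr (morphismRestrict_ι pr V).symm K
  obtain ⟨r⟩ := PerfBaseLib.nonempty_lpull_restrictD (U := (W : Scheme.{u})) W ((DCoh.Lpull pr).obj K)
  obtain ⟨r'⟩ := PerfBaseLib.nonempty_lpull_restrictD (U := (V : Scheme.{u})) V K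
  haveI := DualFMLib.isGE_lpull_flat q ((DCoh.restrictD V.ι).obj K) a
  exact ⟨W, a, hx, DerivedCategory.TStructure.t.isGE_of_iso
    ((DCoh.Lpull q).mapIso r'.symm ≪≫ c₂.app K ≪≫ d.symm ≪≫ (c₁.app K).symm ≪≫ r) a⟩

variable {K : DCoh.D X}
  {ξ : (Dual3.pushD (pullback.diagonal f)).obj (DCoh.inD X (Coh.structureModule X)) ⟶
    (DCoh.Lpull (pullback.fst f f)).obj K}

/-- `RHom(Δ_* O, pr₁^* K) ≅ Δ_* O` for a rigid pair. -/
theorem nonempty_rSheafHom_diagonal (hK : Dual3.IsRelDualizingPair f K ξ)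
    [DCoh.HasRpush (pullback.diagonal f)] (N : Cx (pullback f f))
    (eN : DerivedCategory.Q.obj N ≅
      (DCoh.Rpush (pullback.diagonal f)).obj (DerivedCategory.Q.obj (unitCx X)))
    [DCoh.HasLTensorCx N] [DCoh.HasRSheafHom N] :
    Nonempty ((DCoh.RSheafHom N).obj ((DCoh.Lpull (pullback.fst f f)).obj K) ≅
      (DCoh.Rpush (pullback.diagonal f)).obj (DCoh.inD X (Coh.structureModule X))) := by
  obtain ⟨hpc, htor, hrig⟩ := hK
  let Δ := pullback.diagonal f
  haveI : IsClosedImmersion Δ := inferInstance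
  let P := pullback f f
  let L := (DCoh.Lpull (pullback.fst f f)).obj K
  let O := DCoh.inD X (Coh.structureModule X)
  obtain ⟨r⟩ := RHomOLib.nonempty_rpush_iso Δ
  have hLq : DCoh.IsQCohD L := KFlatLib.isQCohD_lpull _ K (KiehlLib.isQCohD_of_isPC hpc)
  have hOq : DCoh.IsQCohD O := (Dual3Lib.unitQ X).property
  have hNpc : ∀ m, DCoh.IsPseudoCoherentD m (DerivedCategory.Q.obj N) := fun m =>
    PerfLib.isPC_of_iso ((r.app _).symm ≪≫ eN.symm) (isPC_pushD_diagonal f m)
  have hRq : DCoh.IsQCohD ((DCoh.RSheafHom N).obj L) := by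
    refine PerfDualLib.isQCohD_of_local fun p => ?_
    obtain ⟨W, c, hp, hc⟩ := exists_isGE_nhd f htor p
    haveI := hc
    let NW := (DCohRestrLib.resCx W).obj N
    haveI := KFlatLib.hasLTensorCx NW
    haveI := BidualSchLib.hasRSheafHom NW
    obtain ⟨ρ⟩ := DCohRestrLib.nonempty_restrict_RSheafHom W N
    refine ⟨W, hp, KFlatLib.isQCohD_iso (ρ.app L).symm ?_⟩
    refine Groth.Agent.S1115.result _ NW (fun m => ?_) _ (KoszOrthLib.isQCohD_restrictD W.ι hLq) c
    exact PerfLib.isPC_of_iso ((Scheme.Modules.restrictFunctor W.ι).mapDerivedCategoryFactors.app N)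
      (PerfLib.isPC_res (hNpc m) W.ι)
  haveI := KFlatLib.hasLpull Δ
  haveI := KFlatLib.hasLTensorCx (unitCx X)
  obtain ⟨pN⟩ := DualFMLib.nonempty_projNat₂ Δ (unitCx X)
    (KFlatLib.isQCohD_iso ((DerivedCategory.singleFunctorIsoCompQ X.Modules 0).app (Coh.structureModule X)) hOq)
    N eN
  obtain ⟨u⟩ := BCArbLib.nonempty_lTensor_unit_id X
  let s : (DCoh.IsQCohD (X := P)).ι ⋙ DCoh.LTensorCx N ≅
      (DCoh.IsQCohD (X := P)).ι ⋙ DCoh.Lpull Δ ⋙ Dual3.pushD Δ :=
    pN ≪≫ Functor.isoWhiskerLeft _ (Functor.isoWhiskerLeft _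
      (Functor.isoWhiskerRight u (DCoh.Rpush Δ) ≪≫ Functor.leftUnitor _ ≪≫ r))
  let T₀ : DCoh.DQCoh P := ⟨(DCoh.Rpush Δ).obj O, QRlimLib.isQCohD_rpush Δ hOq⟩
  let R₀ : DCoh.DQCoh P := ⟨(DCoh.RSheafHom N).obj L, hRq⟩
  let adjΔ := KFlatLib.lpullRpushAdj Δ
  let A := DCoh.RSheafHomAdj N
  let c₀ : T₀ ⟶ R₀ := ObjectProperty.homMk (A.homEquiv _ _
    (s.hom.app T₀ ≫ (Dual3.pushD Δ).map (adjΔ.counit.app O) ≫ ξ))
  haveI : IsIso c₀ := by
    refine isIso_of_yoneda_map_bijective _ fun Q => ?_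
    have key : ∀ y : Q ⟶ T₀, (A.homEquiv Q.obj L).symm (y ≫ c₀).hom =
        s.hom.app Q ≫ (Dual3.pushD Δ).map ((adjΔ.homEquiv Q.obj O).symm y.hom) ≫ ξ := fun y => by
      change (A.homEquiv Q.obj L).symm (y.hom ≫ A.homEquiv _ _ _) = _
      rw [A.homEquiv_naturality_left_symm, Equiv.symm_apply_apply]
      have hn := s.hom.naturality y
      simp only [Functor.comp_map] at hn
      refine (reassoc_of% hn) _ |>.trans ?_
      rw [adjΔ.homEquiv_counit, Functor.map_comp, Category.assoc]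
      rfl
    have hb : Function.Bijective fun y : Q ⟶ T₀ => (A.homEquiv Q.obj L).symm (y ≫ c₀).hom := by
      simp only [key]
      exact (s.app Q).symm.homFromEquiv.bijective.comp ((bijective_zero (Dual3.pushD Δ) O ξ _
        (hrig _ 0)).comp (((DCoh.IsQCohD (X := P)).fullyFaithfulι.homEquiv (X := Q) (Y := T₀)).trans
          (adjΔ.homEquiv Q.obj O).symm).bijective)
    exact (Function.Bijective.of_comp_iff' (((DCoh.IsQCohD (X := P)).fullyFaithfulι.homEquiv
      (X := Q) (Y := R₀)).trans (A.homEquiv Q.obj L).symm).bijective (fun y : Q ⟶ T₀ => y ≫ c₀)).1 hb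
  exact ⟨((DCoh.IsQCohD (X := P)).ι.mapIso (asIso c₀)).symm⟩

end Groth.Agent.RigidLib
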