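import Groth.Agent.BCArbLib.Main
import Groth.Agent.BCArbLib.Deg
import Groth.Agent.Dual3Lib.RelPerf
import Groth.Agent.RelFlatLib.Local
import Groth.Agent.DualFMLib.Equiv
import Groth.Agent.KiehlLib.Base
import Groth.Agent.PerfBaseLib.FlatProper

/-!
# The relative dualizing object is relatively perfect
-/

set_option autoImplicit false
set_option linter.style.haveILetI false
set_option linter.unusedSectionVars false
set_option backward.isDefEq.respectTransparency false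
set_option backward.isDefEq.respectTransparency.types false
set_option maxHeartbeats 1000000
set_option synthInstance.maxHeartbeats 200000

universe u

open CategoryTheory CategoryTheory.Limits AlgebraicGeometry
open Groth.Agent Groth.Agent.DerLib Groth.Agent.PerfDualLib Groth.Agent.DualFMLib

attribute [local instance] HasDerivedCategory.standard

noncomputable section

namespace Groth.Agent.RigidLib

variable {X Y : Scheme.{u}} (f : X ⟶ Y) [IsProper f] [Flat f] [LocallyOfFinitePresentation f]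
  [DCoh.HasRpush f] (hf : DCoh.RpushPreservesQCoh f) (a : DCoh.DQCoh Y ⥤ DCoh.DQCoh X)
  (adj : DCoh.RpushQ f hf ⊣ a)

include adj in
/-- `Rf_*(a(O) ⊗ E)` is perfect for perfect `E`. -/
theorem isPerfect_rpush_ten [CompactSpace Y] [QuasiSeparatedSpace Y] (O : DCoh.DQCoh Y)
    (eO : O.obj ≅ DerivedCategory.Q.obj (unitCx Y)) (E : DCoh.D X) (hE : DCoh.IsPerfect E) :
    DCoh.IsPerfect ((DCoh.Rpush f).obj (Dual3Lib.ten (a.obj O).obj E)) := by
  haveI : CompactSpace X := QuasiCompact.compactSpace_of_compactSpace f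
  haveI : QuasiSeparatedSpace X := quasiSeparatedSpace_of_quasiSeparated f
  haveI := KFlatLib.hasLpull f
  let R := Dual3Lib.rep E
  haveI := KFlatLib.hasLTensorCx R
  have hRp : DCoh.IsPerfect (DerivedCategory.Q.obj R) :=
    PerfLib.isPerfect_of_iso (Dual3Lib.repIso E).symm hE
  have hRq := KoszOrthLib.isQCohD_of_isPerfect hRp
  obtain ⟨D, _, hDp, ⟨adjD⟩, -⟩ := ShriekLib.exists_dual_adj R hRp
  have hDq := KoszOrthLib.isQCohD_of_isPerfect hDp
  obtain ⟨N, hN, ⟨eN⟩⟩ := PerfDualLib.exists_kFlat_model ((DCoh.Rpush f).obj (DerivedCategory.Q.obj D))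
  haveI := KFlatLib.hasLTensorCx N
  have hNp : DCoh.IsPerfect (DerivedCategory.Q.obj N) :=
    PerfLib.isPerfect_of_iso eN.symm (DualFMLib.isPerfect_rpush_flat f _ hDp)
  have hNq := KoszOrthLib.isQCohD_of_isPerfect hNp
  obtain ⟨D', _, hD'p, -, ⟨adjN⟩⟩ := ShriekLib.exists_dual_adj N hNp
  have hD'q := KoszOrthLib.isQCohD_of_isPerfect hD'p
  obtain ⟨p⟩ := DualFMLib.nonempty_projNat₂ f D hDq N eN
  let LQ := ObjectProperty.lift (DCoh.IsQCohD (X := X)) ((DCoh.IsQCohD (X := Y)).ι ⋙ DCoh.Lpull f)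
    fun W => KFlatLib.isQCohD_lpull f _ W.property
  let adjl : LQ ⊣ DCoh.RpushQ f hf :=
    (KFlatLib.lpullRpushAdj f).restrictFullyFaithful (DCoh.IsQCohD (X := Y)).fullyFaithfulι
      (DCoh.IsQCohD (X := X)).fullyFaithfulι (ObjectProperty.liftCompιIso _ _ _).symm
      (ObjectProperty.liftCompιIso _ _ _).symm
  let eQ : LQ ⋙ ShriekLib.tQ D hDq ⋙ DCoh.RpushQ f hf ≅ ShriekLib.tQ N hNq :=
    NatIso.ofComponents (fun W => ((DCoh.IsQCohD (X := Y)).fullyFaithfulι).preimageIso (p.app W).symm)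
      fun g => (DCoh.IsQCohD (X := Y)).ι.map_injective (by
        simpa [ShriekLib.tQ, LQ] using p.inv.naturality g)
  let θ : (a ⋙ ShriekLib.tQ R hRq) ⋙ DCoh.RpushQ f hf ≅ ShriekLib.tQ D' hD'q :=
    (adjl.comp ((ShriekLib.tQAdj D R hDq hRq adjD).comp adj)).rightAdjointUniq
      ((ShriekLib.tQAdj N D' hNq hD'q adjN).ofNatIsoLeft eQ.symm)
  obtain ⟨u⟩ := Dual3Lib.nonempty_lTensorCx_unit D'
  exact PerfLib.isPerfect_of_iso (L := (DCoh.Rpush f).obj ((DCoh.LTensorCx R).obj (a.obj O).obj))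
    (((DCoh.IsQCohD (X := Y)).ι.mapIso (θ.app O)) ≪≫ (DCoh.LTensorCx D').mapIso eO ≪≫ u).symm hD'p

include adj in
/-- The value at `O` of the right adjoint is relatively perfect. -/
theorem isRelPerfect_rightAdjoint [CompactSpace Y] [QuasiSeparatedSpace Y] (O : DCoh.DQCoh Y)
    (hO : Nonempty (O.obj ≅ DCoh.inD Y (Coh.structureModule Y))) :
    (∀ m : ℤ, DCoh.IsPseudoCoherentD m (a.obj O).obj) ∧
      DCoh.LocHasFiniteRelTorDim f (a.obj O).obj := by
  obtain ⟨e₀⟩ := hO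
  haveI : CompactSpace X := QuasiCompact.compactSpace_of_compactSpace f
  haveI : QuasiSeparatedSpace X := quasiSeparatedSpace_of_quasiSeparated f
  let ω := (a.obj O).obj
  have key : ∀ {U : Y.Opens} (hU : IsAffineOpen U),
      (∀ m : ℤ, DCoh.IsPseudoCoherentD m ((DCoh.restrictD (f ⁻¹ᵁ U).ι).obj ω)) ∧
      DerSch.LocFiniteTorAmplitudeD ((f ∣_ U) ≫ hU.isoSpec.hom) ((DCoh.restrictD (f ⁻¹ᵁ U).ι).obj ω) := by
    intro U hU
    let P := f ⁻¹ᵁ U
    let fU := f ∣_ U
    haveI : IsAffine (U : Scheme.{u}) := hU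
    haveI : IsProper fU := MorphismProperty.of_isPullback (P := @IsProper)
      (isPullback_morphismRestrict f U).flip inferInstance
    haveI : Flat fU := MorphismProperty.of_isPullback (P := @Flat)
      (isPullback_morphismRestrict f U).flip inferInstance
    haveI : LocallyOfFinitePresentation fU := MorphismProperty.of_isPullback (P := @LocallyOfFinitePresentation)
      (isPullback_morphismRestrict f U).flip inferInstance
    haveI : CompactSpace (P : Scheme.{u}) := QuasiCompact.compactSpace_of_compactSpace fU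
    haveI : QuasiSeparatedSpace (P : Scheme.{u}) := quasiSeparatedSpace_of_quasiSeparated fU
    haveI : QuasiCompact U.ι := quasiCompact_of_compactSpace _
    haveI : QuasiCompact P.ι := quasiCompact_of_compactSpace _
    haveI := KFlatLib.hasLpull U.ι
    haveI := KFlatLib.hasLpull P.ι
    haveI := DCohRestrLib.hasRpush U.ι
    haveI := DCohRestrLib.hasRpush P.ι
    haveI := DCohRestrLib.hasRpush fU
    have hfU : DCoh.RpushPreservesQCoh fU := fun E hE => QRlimLib.isQCohD_rpush fU hE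
    have hj : DCoh.RpushPreservesQCoh U.ι := fun E hE => QRlimLib.isQCohD_rpush _ hE
    have hjX : DCoh.RpushPreservesQCoh P.ι := fun E hE => QRlimLib.isQCohD_rpush _ hE
    haveI := KoszOrthLib.isLeftAdjoint_rpushQ fU hfU
    let adjU := Adjunction.ofIsLeftAdjoint (DCoh.RpushQ fU hfU)
    let Aj := DualFMLib.adjQ (g := U.ι) (KFlatLib.isQCohD_lpull U.ι) hj
    let AjX := DualFMLib.adjQ (g := P.ι) (KFlatLib.isQCohD_lpull P.ι) hjX
    let O₁ := (Dual3.LpullQ U.ι (KFlatLib.isQCohD_lpull U.ι)).obj O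
    haveI : IsIso (xiAbs adj adjU (sqQ (isPullback_morphismRestrict f U).flip.w hf hfU hj hjX) O₁) :=
      isIso_xi_sqQ (isPullback_morphismRestrict f U).flip adj adjU Aj AjX O₁
    haveI := BCArbLib.isIso_bcAbs_open f hf a adj U hj hjX hfU adjU Aj AjX O
    let b := (DCoh.IsQCohD (X := (P : Scheme.{u}))).ι.mapIso
      (asIso (bcAbs adj adjU (sqQ (isPullback_morphismRestrict f U).flip.w hf hfU hj hjX) Aj AjX O))
    obtain ⟨r⟩ := PerfBaseLib.nonempty_lpull_restrictD (U := (P : Scheme.{u})) P ω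
    let oU : O₁.obj ≅ DerivedCategory.Q.obj (unitCx (U : Scheme.{u})) :=
      (DCoh.Lpull U.ι).mapIso (e₀ ≪≫ (DerivedCategory.singleFunctorIsoCompQ Y.Modules 0).app _) ≪≫
        KiehlLib.lpullUnitIso U.ι
    let gS := fU ≫ hU.isoSpec.hom
    haveI : IsProper gS := inferInstanceAs (IsProper (fU ≫ hU.isoSpec.hom))
    haveI : Flat gS := inferInstanceAs (Flat (fU ≫ hU.isoSpec.hom))
    haveI : LocallyOfFinitePresentation gS :=
      inferInstanceAs (LocallyOfFinitePresentation (fU ≫ hU.isoSpec.hom))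
    haveI := DCohRestrLib.hasRpush gS
    haveI := DCohRestrLib.hasRpush hU.isoSpec.hom
    haveI := DCohRestrLib.hasRpush (fU ≫ hU.isoSpec.hom)
    let M := (DCoh.restrictD P.ι).obj ω
    have hM : DCoh.IsQCohD M := KoszOrthLib.isQCohD_restrictD P.ι (a.obj O).property
    have htest : ∀ E : DCoh.D (P : Scheme.{u}), DCoh.IsPerfect E →
        DCoh.IsPerfect ((DCoh.Rpush gS).obj (Dual3Lib.ten M E)) := fun E hE => by
      obtain ⟨c⟩ := Dual3Lib.nonempty_rpush_comp fU hU.isoSpec.hom (Dual3Lib.ten M E)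
      haveI := KFlatLib.hasLTensorCx (Dual3Lib.rep E)
      refine PerfLib.isPerfect_of_iso c (DualFMLib.isPerfect_rpush_flat hU.isoSpec.hom _ ?_)
      exact PerfLib.isPerfect_of_iso
        ((DCoh.Rpush fU).mapIso ((DCoh.LTensorCx (Dual3Lib.rep E)).mapIso (b.symm ≪≫ r)))
        (isPerfect_rpush_ten fU hfU _ adjU O₁ oU E hE)
    exact ⟨fun m => Dual3Lib.isPC_of_relAll gS (Dual3Lib.isPC_relAll_of_test gS hM fun E hE k =>
      RelFlatLib.isPC_of_isPerfect (htest E hE) k) m,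
      Dual3Lib.locFiniteTorAmplitude_of_test gS hM htest⟩
  refine ⟨fun m => KiehlLib.isPC_of_local fun x => ?_, (RelFlatLib.loc_iff_ampD f).2 fun x => ?_⟩
  · obtain ⟨U, hU, hx, -⟩ := exists_isAffineOpen_mem_and_subset (x := f x) (U := (⊤ : Y.Opens)) trivial
    exact ⟨f ⁻¹ᵁ U, hx, (key hU).1 m⟩
  · obtain ⟨U, hU, hx, -⟩ := exists_isAffineOpen_mem_and_subset (x := f x) (U := (⊤ : Y.Opens)) trivial
    let P := f ⁻¹ᵁ U
    obtain ⟨F, ⟨eF⟩⟩ : ∃ F : Cx (P : Scheme.{u}), Nonempty (DCoh.toD _ F ≅ (DCoh.restrictD P.ι).obj ω) :=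
      ⟨_, ⟨DerivedCategory.Q.objObjPreimageIso _⟩⟩
    obtain ⟨V, p, q, hxV, hV⟩ := (key hU).2 F ⟨eF⟩ (⟨x, hx⟩ : (P : Scheme.{u}))
    refine ⟨P.ι ''ᵁ V, p, q, ⟨⟨x, hx⟩, hxV, rfl⟩, fun x' hx' => ?_⟩
    obtain ⟨y, hy, rfl⟩ := hx'
    have h1 : ((f ∣_ U) ≫ hU.isoSpec.hom) ≫ hU.fromSpec = P.ι ≫ f := by
      rw [Category.assoc, IsAffineOpen.isoSpec_hom_fromSpec, morphismRestrict_ι]
    refine (RelFlatLib.ampD_res_iff P.ι f y p q ω).1 ?_
    rw [RelFlatLib.ampD_congr h1.symm, RelFlatLib.ampD_target_iff ((f ∣_ U) ≫ hU.isoSpec.hom) hU.fromSpec y p q]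
    exact (RelFlatLib.ampD_rep _ eF y).2 (hV y hy)

end Groth.Agent.RigidLib
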