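import Groth.Agent.RigidLib.Chart
import Groth.Agent.Formal2VBLib.Punct
import Groth.Prelude.Def_KLin

/-!
# Scalars on the derived category of an affine open
-/

set_option autoImplicit false
set_option linter.style.haveILetI false
set_option linter.unusedSectionVars false
set_option backward.isDefEq.respectTransparency false
set_option backward.isDefEq.respectTransparency.types false
set_option maxHeartbeats 1000000
set_option synthInstance.maxHeartbeats 200000

universe u

open CategoryTheory CategoryTheory.Limits AlgebraicGeometry Opposite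
open Groth.Agent Groth.Agent.DerLib

attribute [local instance] HasDerivedCategory.standard

noncomputable section

namespace Groth.Agent.RigidLib

/-- An exact functor carries scalars to scalars on derived categories. -/
theorem mapDerived_smul {C : Type (u + 1)} [Category.{u} C] [Abelian C] {D : Type (u + 1)} [Category.{u} D] [Abelian D]
    {k l : Type u} [CommRing k] [CommRing l] [CategoryTheory.Linear k C] [CategoryTheory.Linear l D]
    (F : C ⥤ D) [F.Additive] [PreservesFiniteLimits F] [PreservesFiniteColimits F] (θ : k → l)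
    (hF : ∀ (M : C) (r : k), F.map (r • 𝟙 M) = θ r • 𝟙 (F.obj M)) (K : DerivedCategory C) (r : k) :
    F.mapDerivedCategory.map (r • 𝟙 K) = θ r • 𝟙 (F.mapDerivedCategory.obj K) := by
  let e := DerivedCategory.Q.objObjPreimageIso K
  let P := DerivedCategory.Q.objPreimage K
  let c := F.mapDerivedCategoryFactors
  have hc : (F.mapHomologicalComplex (ComplexShape.up ℤ)).map (r • 𝟙 P) = θ r • 𝟙 _ :=
    HomologicalComplex.hom_ext _ _ fun i => by
      rw [Functor.mapHomologicalComplex_map_f, HomologicalComplex.smul_f_apply, HomologicalComplex.smul_f_apply,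
        HomologicalComplex.id_f, HomologicalComplex.id_f, hF]
      rfl
  have h0 : F.mapDerivedCategory.map (DerivedCategory.Q.map (r • 𝟙 P)) = θ r • 𝟙 _ := by
    have := c.hom.naturality (r • 𝟙 P)
    simp only [Functor.comp_map] at this
    rw [← cancel_mono (c.hom.app P), this, hc, Functor.map_smul, CategoryTheory.Functor.map_id,
      Linear.comp_smul, Linear.smul_comp]
    exact congrArg (θ r • ·) ((Category.comp_id _).trans (Category.id_comp _).symm)
  rw [show r • 𝟙 K = e.inv ≫ DerivedCategory.Q.map (r • 𝟙 P) ≫ e.hom by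
    rw [Functor.map_smul, CategoryTheory.Functor.map_id]; simp [e, P],
    Functor.map_comp, Functor.map_comp, h0, Linear.smul_comp, Category.id_comp, Linear.comp_smul,
    ← Functor.map_comp, e.inv_hom_id, CategoryTheory.Functor.map_id]

/-- A scheme over its global functions. -/
@[instance_reducible] def overΓ (X : Scheme.{u}) : X.Over (Spec (CommRingCat.of Γ(X, ⊤))) := ⟨X.toSpecΓ⟩

attribute [local instance] overΓ

theorem toGlobal_overΓ (X : Scheme.{u}) (r : Γ(X, ⊤)) :
    Coh.toGlobal (X ↘ Spec (CommRingCat.of Γ(X, ⊤))) r = r := by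
  show (X.toSpecΓ.appTop).hom ((Scheme.ΓSpecIso Γ(X, ⊤)).inv.hom r) = r
  rw [Scheme.toSpecΓ_appTop, ← CommRingCat.comp_apply, Iso.inv_hom_id]
  rfl

theorem smul_id_eq {X : Scheme.{u}} (M : X.Modules) (r : Γ(X, ⊤)) : r • 𝟙 M = Formal.smulModΓ M r := by
  rw [KLin.smul_id]
  show Formal.smulModΓ M _ = _
  rw [toGlobal_overΓ]

/-- Restriction along an open immersion respects scalars. -/
theorem restrictD_smul {X Y : Scheme.{u}} (j : X ⟶ Y) [IsOpenImmersion j] (K : DCoh.D Y) (r : Γ(Y, ⊤)) :
    (DCoh.restrictD j).map (r • 𝟙 K) = (j.appTop r : Γ(X, ⊤)) • 𝟙 ((DCoh.restrictD j).obj K) :=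
  mapDerived_smul (Scheme.Modules.restrictFunctor j) (fun r => j.appTop r) (fun M r => by
    rw [smul_id_eq, smul_id_eq, Formal2VBLib.restrict_smulModΓ]) K r

attribute [local instance] FlatRelPCLib.tildeExact

/-- `tilde` respects scalars. -/
theorem tildeD_smul {A : Type u} [CommRing A] [PreservesFiniteLimits (tilde.functor (CommRingCat.of A))] (K : Dual.D A) (a : A) :
    (DCoh.tildeD (CommRingCat.of A)).map (a • 𝟙 K) =
      ((Scheme.ΓSpecIso (CommRingCat.of A)).inv a : Γ(Spec (CommRingCat.of A), ⊤)) •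
        𝟙 ((DCoh.tildeD (CommRingCat.of A)).obj K) := by
  haveI : PreservesFiniteColimits (tilde.functor (CommRingCat.of A)) :=
    DualCxLib.tilde_preservesFiniteColimits (CommRingCat.of A)
  refine mapDerived_smul (tilde.functor (CommRingCat.of A)) (fun a => (Scheme.ΓSpecIso (CommRingCat.of A)).inv a)
    (fun M a => ?_) K a
  rw [smul_id_eq]
  exact Formal2VBLib.tildeMap_smul M a

/-- Derived restriction along an isomorphism is fully faithful. -/
theorem nonempty_fullyFaithful_restrictD {X X' : Scheme.{u}} (h : X' ⟶ X) [IsIso h] :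
    Nonempty (DCoh.restrictD h).FullyFaithful := by
  haveI := KFlatLib.hasLpull h
  haveI := DCohRestrLib.hasRpush h
  haveI : ∀ L, IsIso ((KFlatLib.lpullRpushAdj h).unit.app L) := isIso_unit_of_isIso h
  haveI : IsIso (KFlatLib.lpullRpushAdj h).unit := NatIso.isIso_of_isIso_app _
  exact ⟨(KFlatLib.lpullRpushAdj h).fullyFaithfulLOfIsIsoUnit.ofIso (DualFMLib.lpullRestrIso h)⟩

variable {X : Scheme.{u}} {K : DCoh.D X} {U : X.Opens} {hU : IsAffineOpen U}

/-- Endomorphisms of the restriction to an affine open, from those of its module. -/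
theorem scalar_of_mod {M : Dual.D Γ(X, U)} (hM : FlatRelPCLib.Mod K hU M)
    (hb : Function.Bijective fun a : Γ(X, U) => a • 𝟙 M) (he : ∀ i : ℤ, i ≠ 0 → Subsingleton (M ⟶ M⟦i⟧))
    {E : DCoh.D (U : Scheme.{u})} (eE : (DCoh.restrictD U.ι).obj K ≅ E) :
    (Function.Bijective fun r : Γ((U : Scheme.{u}), ⊤) => r • 𝟙 E) ∧
      ∀ i : ℤ, i ≠ 0 → Subsingleton (E ⟶ E⟦i⟧) := by
  let A := Γ(X, U)
  let σ := hU.isoSpec.inv
  obtain ⟨eM⟩ := hM
  obtain ⟨dc⟩ := FlatRelPCLib.nonempty_resD_congr hU.isoSpec_inv_ι K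
  obtain ⟨cc⟩ := Groth.Agent.PerfLib.nonempty_resD_comp σ U.ι K
  haveI := FlatRelPCLib.tildeExact (CommRingCat.of A)
  let T := DCoh.tildeD (CommRingCat.of A)
  let R := DCoh.restrictD σ
  let e : R.obj E ≅ T.obj M := R.mapIso eE.symm ≪≫ cc.symm ≪≫ dc ≪≫ eM.symm
  obtain ⟨ffR⟩ := nonempty_fullyFaithful_restrictD σ
  haveI : IsIso (TildeDerLib.adjD (CommRingCat.of A)).unit := inferInstance
  let ffT : T.FullyFaithful := (TildeDerLib.adjD (CommRingCat.of A)).fullyFaithfulLOfIsIsoUnit
  let Φ : (E ⟶ E) ≃ (M ⟶ M) :=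
    ffR.homEquiv.trans ((e.homCongr e).trans ffT.homEquiv.symm)
  let ι : A → Γ(Spec (CommRingCat.of A), ⊤) := fun a => (Scheme.ΓSpecIso (CommRingCat.of A)).inv a
  let θ : Γ((U : Scheme.{u}), ⊤) → Γ(Spec (CommRingCat.of A), ⊤) := fun r => σ.appTop r
  have hι : Function.Bijective ι := ConcreteCategory.bijective_of_isIso (Scheme.ΓSpecIso (CommRingCat.of A)).inv
  have hθ : Function.Bijective θ := ConcreteCategory.bijective_of_isIso σ.appTop
  let g := (Equiv.ofBijective θ hθ).trans (Equiv.ofBijective ι hι).symm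
  have key : ∀ r : Γ((U : Scheme.{u}), ⊤), Φ (r • 𝟙 E) = g r • 𝟙 M := fun r => by
    refine ffT.homEquiv.symm_apply_eq.2 ?_
    show e.inv ≫ R.map (r • 𝟙 E) ≫ e.hom = T.map (g r • 𝟙 M)
    rw [restrictD_smul, tildeD_smul, show (Scheme.ΓSpecIso (CommRingCat.of A)).inv (g r) = σ.appTop r from
      (Equiv.ofBijective ι hι).apply_symm_apply _, Linear.smul_comp, Category.id_comp, Linear.comp_smul,
      e.inv_hom_id]
  refine ⟨?_, fun i hi => ?_⟩
  · rw [show (fun r : Γ((U : Scheme.{u}), ⊤) => r • 𝟙 E) = Φ.symm ∘ (fun a : A => a • 𝟙 M) ∘ g from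
      funext fun r => (Φ.eq_symm_apply).2 (key r)]
    exact Φ.symm.bijective.comp (hb.comp g.bijective)
  · haveI := he i hi
    let Ψ : (E ⟶ E⟦i⟧) ≃ (M ⟶ M⟦i⟧) := ffR.homEquiv.trans ((e.homCongr ((R.commShiftIso i).app E ≪≫
      (shiftFunctor _ i).mapIso e ≪≫ ((T.commShiftIso i).app M).symm)).trans ffT.homEquiv.symm)
    exact Ψ.subsingleton

end Groth.Agent.RigidLib
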