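import Groth.Agent.DualFMLib.Twist.Adj
import Groth.Agent.BCArbLib.Main
import Groth.Agent.DualFMLib.Equiv
import Groth.Prelude.Def_SGA6
import Mathlib.CategoryTheory.Adjunction.Restrict

/-!
# Left adjoints of Fourier–Mukai functors on `D_qcoh` for a flat proper Gorenstein target
-/

set_option autoImplicit false
set_option linter.style.haveILetI false
set_option linter.unusedSectionVars false
set_option backward.isDefEq.respectTransparency false
set_option backward.isDefEq.respectTransparency.types false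
set_option maxHeartbeats 2000000
set_option synthInstance.maxHeartbeats 200000

universe u

open CategoryTheory CategoryTheory.Limits AlgebraicGeometry
open Groth.Agent.DerLib Groth.Agent.PerfDualLib Groth.Agent.ProjFormLib

attribute [local instance] HasDerivedCategory.standard

noncomputable section

namespace Groth.Agent.RigidLib

open Groth.Agent.DualFMLib

variable {S X Y : Scheme.{u}} [IsNoetherian S] (a : X ⟶ S) (b : Y ⟶ S)
  [LocallyOfFiniteType a] [QuasiCompact a] [IsProper b] [Flat b] (K : Cx (pullback a b)) (hK : DCoh.IsPerfect (DCoh.toD _ K))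
  [DCoh.HasLpull (pullback.fst a b)] [DCoh.HasLTensorCx K] [DCoh.HasRpush (pullback.snd a b)]
  [DCoh.HasRSheafHom K]

include hK in
/-- A perfect kernel twisted by the pull-back of the dualizing complex of the target gives a left
adjoint. -/
theorem left_adjoint_twist (hG : Dual3.IsGorensteinMor b) [DCoh.HasRpush b]
    (hRb : DCoh.RpushPreservesQCoh b) [DCoh.HasShriek b hRb]
    (OS : DCoh.DQCoh S) (hOS : OS.obj ≅ DCoh.inD S (Coh.structureModule S))
    [DCoh.HasLpull (pullback.snd a b)]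
    (W : Cx (pullback a b)) [DCoh.HasLTensorCx W]
    (hW : Nonempty (DCoh.toD _ W ≅ (DCoh.Lpull (pullback.snd a b)).obj (DCoh.dualizingCx b hRb OS)))
    [DCoh.HasLpull (pullbackSymmetry b a).hom] (K' : Cx (pullback b a))
    (hK' : Nonempty (DCoh.toD _ K' ≅ (DCoh.Lpull (pullbackSymmetry b a).hom).obj
      ((DCoh.LTensorCx W).obj ((DCoh.RSheafHom K).obj (DCoh.inD _ (Coh.structureModule (pullback a b)))))))
    [DCoh.HasLpull (pullback.fst b a)] [DCoh.HasLTensorCx K'] [DCoh.HasRpush (pullback.snd b a)]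
    (h : ∀ M : DCoh.D X, DCoh.IsQCohD M → DCoh.IsQCohD ((FMK.phi a b K).obj M))
    (h' : ∀ N : DCoh.D Y, DCoh.IsQCohD N → DCoh.IsQCohD ((FMK.phi b a K').obj N)) :
    Nonempty (FMK.phiOn b a K' DCoh.IsQCohD DCoh.IsQCohD h' ⊣
      FMK.phiOn a b K DCoh.IsQCohD DCoh.IsQCohD h) := by
  haveI : IsLocallyNoetherian X := LocallyOfFiniteType.isLocallyNoetherian a
  haveI : CompactSpace X := QuasiCompact.compactSpace_of_compactSpace a
  haveI : IsNoetherian X := ⟨⟩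
  haveI : IsLocallyNoetherian Y := LocallyOfFiniteType.isLocallyNoetherian b
  haveI : CompactSpace Y := QuasiCompact.compactSpace_of_compactSpace b
  haveI : IsNoetherian Y := ⟨⟩
  let p := pullback.fst a b
  let q := pullback.snd a b
  haveI : IsProper p := MorphismProperty.pullback_fst (P := @IsProper) a b inferInstance
  haveI : Flat p := MorphismProperty.pullback_fst (P := @Flat) a b inferInstance
  haveI : LocallyOfFinitePresentation b := inferInstance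
  haveI : IsLocallyNoetherian (pullback a b) := LocallyOfFiniteType.isLocallyNoetherian p
  haveI : CompactSpace (pullback a b : Scheme.{u}) := QuasiCompact.compactSpace_of_compactSpace p
  haveI : IsNoetherian (pullback a b) := ⟨⟩
  haveI := DCohRestrLib.hasRpush p
  have hq : DCoh.RpushPreservesQCoh q := fun E hE => QRlimLib.isQCohD_rpush q hE
  have hp : DCoh.RpushPreservesQCoh p := fun E hE => QRlimLib.isQCohD_rpush p hE
  haveI : ∀ (U V : Scheme.{u}) (j : U ⟶ V) [IsOpenImmersion j],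
      PreservesFiniteLimits (Scheme.Modules.restrictFunctor j) := fun U V j _ => inferInstance
  obtain ⟨eW⟩ := hW
  obtain ⟨eK'⟩ := hK'
  haveI := KFlatLib.hasLTensorCx (unitCx (pullback a b))
  haveI := BidualSchLib.hasRSheafHom (unitCx (pullback a b))
  obtain ⟨D, hDh, hD, hDp, ⟨eD⟩, -⟩ := exists_dual_kernel K hK
  haveI := hDh
  have hωi := isInvertibleD_rightAdjoint_unit b hG hRb (DCoh.shriek b hRb) (DCoh.shriekAdj b hRb) OS hOS
  have hWp : DCoh.IsPerfect (DCoh.toD _ W) :=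
    PerfLib.isPerfect_of_iso eW.symm (KFlatLib.isPerfect_lpull q _ (Dual3Lib.Serre.isPerfect_of_isInvertibleD hωi))
  have hWq : DCoh.IsQCohD (DerivedCategory.Q.obj W) := KoszOrthLib.isQCohD_of_isPerfect hWp
  have hKq : DCoh.IsQCohD (DerivedCategory.Q.obj K) := KoszOrthLib.isQCohD_of_isPerfect hK
  have hDq : DCoh.IsQCohD (DerivedCategory.Q.obj D) := KoszOrthLib.isQCohD_of_isPerfect hDp
  -- the inverse of the twist
  obtain ⟨G, hGh, hGi, ⟨eG⟩⟩ := exists_tensor_inverse _ hωi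
  haveI := hGh
  obtain ⟨G₀, hG₀, ⟨eG₀⟩⟩ := exists_flat_rep (DerivedCategory.Q.obj G)
  haveI := KFlatLib.hasLTensorCx G₀
  obtain ⟨cG⟩ := nonempty_lTensor_congr_iso eG₀
  let E := (pullC q).obj G₀
  haveI := KFlatLib.hasLTensorCx E
  obtain ⟨lp⟩ := Dual3Lib.nonempty_lTensor_lpull q G₀ hG₀
  obtain ⟨lu⟩ := nonempty_lpull_unitCx q
  obtain ⟨⟨u₁⟩, ⟨u₂⟩⟩ := nonempty_lTensor_inverse W E (lu.symm ≪≫
    (DCoh.Lpull q).mapIso (eG ≪≫ (cG.app _).symm) ≪≫ lp.app _ ≪≫ (DCoh.LTensorCx E).mapIso eW.symm)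
  have hEq : DCoh.IsQCohD (DerivedCategory.Q.obj E) :=
    KFlatLib.isQCohD_iso (KFlatLib.lpullObjIso q G₀ hG₀) (KFlatLib.isQCohD_lpull q _
      (KoszOrthLib.isQCohD_of_isPerfect (PerfLib.isPerfect_of_iso eG₀.symm
        (Dual3Lib.Serre.isPerfect_of_isInvertibleD hGi))))
  -- the adjoint of the dual kernel
  haveI := BidualSchLib.hasRSheafHom D
  obtain ⟨D', hD'h, hD', -, ⟨eD'⟩, ⟨cD'⟩⟩ := exists_dual_kernel D hDp
  haveI := hD'h
  obtain ⟨K₀, hK₀, ⟨eK₀⟩⟩ := exists_flat_rep (DerivedCategory.Q.obj K)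
  haveI := KFlatLib.hasLTensorCx K₀
  obtain ⟨cK⟩ := nonempty_lTensor_congr_iso eK₀
  obtain ⟨u₀⟩ := nonempty_lTensor_unit_left K₀ hK₀
  obtain ⟨bd⟩ := Dual3Lib.nonempty_rSheafHom_dual K D hK hDp
    (eD ≪≫ (DCoh.RSheafHom K).mapIso (inDUnit _)) (DerivedCategory.Q.obj (unitCx (pullback a b)))
  obtain ⟨cKD⟩ := nonempty_lTensor_congr_iso (eD' ≪≫ (DCoh.RSheafHom D).mapIso (inDUnit _) ≪≫ bd.symm ≪≫
    (cK.app _).symm ≪≫ u₀ ≪≫ eK₀)
  -- the kernel
  obtain ⟨W₀, hW₀, ⟨e₀⟩⟩ := exists_flat_rep (DCoh.toD _ W)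
  haveI := KFlatLib.hasLTensorCx W₀
  obtain ⟨c₀⟩ := nonempty_lTensor_congr_iso e₀
  let T := ((DCoh.tensorCx (X := pullback a b)).obj D).obj W₀
  haveI := KFlatLib.hasLTensorCx T
  obtain ⟨cT⟩ := TensorAssocLib.nonempty_lTensor_comp D W₀ hW₀
  let eT : DerivedCategory.Q.obj T ≅
      (DCoh.LTensorCx W).obj ((DCoh.RSheafHom K).obj (DCoh.inD _ (Coh.structureModule (pullback a b)))) :=
    ((Dual3Lib.flatCnt' W₀ hW₀).app D).symm ≪≫ c₀.app _ ≪≫ (DCoh.LTensorCx W).mapIso eD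
  obtain ⟨eΦ⟩ := nonempty_phi_transpose a b T K'
    ⟨eK' ≪≫ (DCoh.Lpull (pullbackSymmetry b a).hom).mapIso eT.symm⟩
  -- the twisted inverse image
  haveI := KoszOrthLib.isLeftAdjoint_rpushQ p hp
  let adjp := Adjunction.ofIsLeftAdjoint (DCoh.RpushQ p hp)
  let OX : DCoh.DQCoh X := ⟨DerivedCategory.Q.obj (unitCx X),
    KoszOrthLib.isQCohD_of_isPerfect (PerfBaseLib.isPerfect_of_strictlyPerfect (isStrictlyPerfect_unitCx X))⟩
  haveI := KFlatLib.hasLpull a
  haveI := DCohRestrLib.hasRpush a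
  haveI : QuasiCompact a := ‹QuasiCompact a›
  have hRa : DCoh.RpushPreservesQCoh a := fun E hE => QRlimLib.isQCohD_rpush a hE
  have hLa : Dual3.LpullPreservesQCoh a := KFlatLib.isQCohD_lpull a
  have hLq : Dual3.LpullPreservesQCoh q := KFlatLib.isQCohD_lpull q
  let Aa := DualFMLib.adjQ (g := a) hLa hRa
  let Aq := DualFMLib.adjQ (g := q) hLq hq
  have hsq : IsPullback q p b a := (IsPullback.of_hasPullback a b).flip
  haveI hξ : ∀ M, IsIso (Dual3.xi (DCoh.shriekAdj b hRb) adjp (sqQ hsq.w hRb hp hRa hq) M) := fun M =>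
    BCArbLib.isIso_xi_sqQ_flatMap Aa Aq hsq (DCoh.shriekAdj b hRb) adjp M
  haveI := BCArbLib.isIso_bcMap hsq (DCoh.shriekAdj b hRb) adjp Aa Aq OS (hξ _)
  let eOX : (Dual3.LpullQ a hLa).obj OS ≅ OX := ObjectProperty.isoMk _
    ((DCoh.Lpull a).mapIso (hOS ≪≫ inDUnit S) ≪≫ KiehlLib.lpullUnitIso a)
  let ep : (DCoh.Lpull q).obj (DCoh.dualizingCx b hRb OS) ≅ ((DCoh.RpushQ p hp).rightAdjoint.obj OX).obj :=
    (DCoh.IsQCohD (X := pullback a b)).ι.mapIso
      (asIso (Dual3.bcMap (DCoh.shriekAdj b hRb) adjp (sqQ hsq.w hRb hp hRa hq) Aa Aq OS (hξ _)) ≪≫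
        (DCoh.RpushQ p hp).rightAdjoint.mapIso eOX)
  have hcop := KoszOrthLib.preservesCoproducts_rightAdjoint p hp
    (fun E hE => Groth.Agent.S1002.result p E hE) _ adjp
  obtain ⟨τ⟩ := Dual3Lib.nonempty_rightAdjoint_iso_tensor p hp _ adjp hcop OX ⟨(inDUnit X).symm⟩ W
    ⟨eW ≪≫ ep⟩
  -- the adjunction
  let A := ((((adjQ (fun E hE => KFlatLib.isQCohD_lpull q E hE) hq).comp
    (tAdjQ D K hDq hKq ((DCoh.RSheafHomAdj D).ofNatIsoRight (cD'.symm ≪≫ cKD)))).comp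
    (tAdjQ W E hWq hEq (CategoryTheory.Equivalence.mk (DCoh.LTensorCx W) (DCoh.LTensorCx E)
      u₁.symm u₂).toAdjunction))).comp adjp
  refine ⟨(A.ofNatIsoLeft ?_).ofNatIsoRight ?_⟩
  · refine Functor.fullyFaithfulCancelRight (DCoh.IsQCohD (X := X)).ι ?_
    exact Functor.isoWhiskerLeft (DCoh.IsQCohD (X := Y)).ι (Functor.isoWhiskerLeft (DCoh.Lpull q)
      (Functor.isoWhiskerRight (Functor.isoWhiskerLeft _ c₀.symm ≪≫ cT) _) ≪≫ eΦ.symm)
  · refine Functor.fullyFaithfulCancelRight (DCoh.IsQCohD (X := Y)).ι ?_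
    let e₂ : (DCoh.IsQCohD (X := X)).ι ⋙ DCoh.Lpull p ⋙ (DCoh.LTensorCx W ⋙ DCoh.LTensorCx E) ⋙
        DCoh.LTensorCx K ⋙ DCoh.Rpush q ≅ (DCoh.IsQCohD (X := X)).ι ⋙ FMK.phi a b K :=
      Functor.isoWhiskerLeft _ (Functor.isoWhiskerLeft (DCoh.Lpull p)
        (Functor.isoWhiskerRight u₁ (DCoh.LTensorCx K ⋙ DCoh.Rpush q) ≪≫ Functor.leftUnitor _))
    exact (Functor.isoWhiskerRight τ (DCoh.LTensorCx E ⋙ DCoh.LTensorCx K ⋙ DCoh.Rpush q) :
      ((DCoh.RpushQ p hp).rightAdjoint ⋙ (DCoh.IsQCohD (X := pullback a b)).ι) ⋙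
          DCoh.LTensorCx E ⋙ DCoh.LTensorCx K ⋙ DCoh.Rpush q ≅
        (DCoh.IsQCohD (X := X)).ι ⋙ DCoh.Lpull p ⋙ (DCoh.LTensorCx W ⋙ DCoh.LTensorCx E) ⋙ DCoh.LTensorCx K ⋙
          DCoh.Rpush q) ≪≫ e₂

end Groth.Agent.RigidLib
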